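import Groth.Agent.L07.GmFppf.Solve
import Groth.Agent.L10.EtDescent.Cech
import Groth.Prelude.Def_GmPts2

/-!
# The Čech powers of a finite morphism over an affine scheme
-/

universe u

open TensorProduct AlgebraicGeometry CategoryTheory CategoryTheory.Limits Opposite

set_option autoImplicit false
set_option backward.isDefEq.respectTransparency false
set_option backward.isDefEq.respectTransparency.types false
set_option linter.style.haveILetI false

noncomputable section

namespace Groth.L07.GmFppf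

open Groth.L10.EtDescent (qo qfst qπ qlift qlift_fst qlift_π qπ_f qmap qmap_fst qmap_π drop drop_fst drop_π qo_ext cob cob_apply)

section Rh

variable {X : Scheme.{u}} {R : CommRingCat.{u}}

/-- the ring map of a morphism to an affine scheme -/
def rh (m : X ⟶ Spec R) : R ⟶ Γ(X, ⊤) := (Scheme.ΓSpecIso R).inv ≫ m.appTop

theorem toSpecΓ_rh (m : X ⟶ Spec R) : X.toSpecΓ ≫ Spec.map (rh m) = m := by
  refine ext_of_isAffine ?_
  rw [Scheme.Hom.comp_appTop, Scheme.toSpecΓ_appTop, Scheme.ΓSpecIso_naturality, rh, Iso.hom_inv_id_assoc]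

theorem rh_comp {Y : Scheme.{u}} (n : Y ⟶ X) (m : X ⟶ Spec R) : rh (n ≫ m) = rh m ≫ n.appTop := by
  rw [rh, rh, Scheme.Hom.comp_appTop, Category.assoc]

theorem rh_specMap {R' : CommRingCat.{u}} (k : R ⟶ R') : rh (Spec.map k) = k ≫ (Scheme.ΓSpecIso R').inv := by
  rw [rh, Scheme.ΓSpecIso_inv_naturality]

theorem rh_comp_specMap {R' : CommRingCat.{u}} (m : X ⟶ Spec R') (k : R ⟶ R') :
    rh (m ≫ Spec.map k) = k ≫ rh m := by
  rw [rh_comp, rh_specMap, Category.assoc]
  rfl

end Rh

variable {A B : Type u} [CommRing A] [CommRing B] [Algebra A B]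

/-- the factors -/
def ι : ∀ (p : ℕ), Fin p → (B →ₐ[A] TT A B p)
  | 0 => Fin.elim0
  | p + 1 => Fin.cases (inL p) fun j => (inR p).comp (ι p j)

theorem ι_zero (p : ℕ) : (ι (p + 1) 0 : B →ₐ[A] TT A B (p + 1)) = inL p := rfl

theorem ι_succ (p : ℕ) (j : Fin p) : (ι (p + 1) j.succ : B →ₐ[A] TT A B (p + 1)) = (inR p).comp (ι p j) := rfl

theorem d_ι : ∀ (p : ℕ) (i : Fin (p + 1)) (j : Fin p),
    (d p i).comp (ι p j) = (ι (p + 1) (i.succAbove j) : B →ₐ[A] TT A B (p + 1)) := by
  intro p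
  induction p with
  | zero => intro i j; exact j.elim0
  | succ p ih =>
    intro i j
    induction i using Fin.cases with
    | zero => rw [d_zero, Fin.succAbove_zero]; rfl
    | succ i =>
      induction j using Fin.cases with
      | zero =>
        rw [Fin.succ_succAbove_zero]
        exact AlgHom.ext fun b => mapR_inL (d p i) b
      | succ j =>
        rw [Fin.succ_succAbove_succ, ι_succ (p + 1), ← ih i j]
        exact AlgHom.ext fun b => mapR_inR (d p i) _

/-- maps out of a tensor power -/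
def liftT {R : Type u} [CommRing R] [Algebra A R] : ∀ (p : ℕ), (Fin p → (B →ₐ[A] R)) → (TT A B p →ₐ[A] R)
  | 0, _ => Algebra.ofId A R
  | p + 1, f => Algebra.TensorProduct.lift (f 0) (liftT p fun j => f j.succ) fun _ _ => .all _ _

theorem liftT_ι {R : Type u} [CommRing R] [Algebra A R] : ∀ (p : ℕ) (f : Fin p → (B →ₐ[A] R)) (j : Fin p),
    (liftT p f).comp (ι p j) = f j := by
  intro p
  induction p with
  | zero => intro f j; exact j.elim0
  | succ p ih =>
    intro f j
    induction j using Fin.cases with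
    | zero =>
      refine AlgHom.ext fun b => ?_
      show Algebra.TensorProduct.lift (f 0) (liftT p fun j => f j.succ) (fun _ _ => .all _ _) (b ⊗ₜ[A] (1 : TT A B p)) = _
      rw [Algebra.TensorProduct.lift_tmul, map_one, mul_one]
    | succ j =>
      refine AlgHom.ext fun b => ?_
      show Algebra.TensorProduct.lift (f 0) (liftT p fun j => f j.succ) (fun _ _ => .all _ _)
        ((1 : B) ⊗ₜ[A] (ι p j b : TT A B p)) = _
      rw [Algebra.TensorProduct.lift_tmul, map_one, one_mul, ← AlgHom.comp_apply, ih]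

theorem algHom_ext_TT {R : Type u} [CommRing R] [Algebra A R] : ∀ (p : ℕ) {f g : TT A B p →ₐ[A] R},
    (∀ j, f.comp (ι p j) = g.comp (ι p j)) → f = g := by
  intro p
  induction p with
  | zero => intro f g _; exact @Subsingleton.elim (A →ₐ[A] R) _ f g
  | succ p ih =>
    intro f g h
    refine algHom_ext_succ (fun b => AlgHom.congr_fun (h 0) b) fun x => ?_
    exact AlgHom.congr_fun (ih (f := f.comp (inR p)) (g := g.comp (inR p)) fun j => h j.succ) x

variable {S W : Scheme.{u}} {h : W ⟶ S} {t : Spec (CommRingCat.of A) ⟶ S} {w : Spec (CommRingCat.of B) ⟶ W}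
  (hw : IsPullback w (Spec.map (CommRingCat.ofHom (algebraMap A B))) h t)
  (C : Type u) [CommRing C] [Algebra A C]

/-- the base change as an object -/
abbrev TC (t : Spec (CommRingCat.of A) ⟶ S) (C : Type u) [CommRing C] [Algebra A C] : Over S :=
  Over.mk (Spec.map (CommRingCat.ofHom (algebraMap A C)) ≫ t)

include hw in
theorem phi_cond (p : ℕ) (j : Fin p) :
    (Spec.map (CommRingCat.ofHom (((Algebra.TensorProduct.includeRight : TT A B p →ₐ[A] C ⊗[A] TT A B p).comp
      (ι p j)).toRingHom)) ≫ w) ≫ h =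
    Spec.map (CommRingCat.ofHom (Algebra.TensorProduct.includeLeftRingHom : C →+* C ⊗[A] TT A B p)) ≫ (TC t C).hom := by
  rw [Category.assoc, hw.w]
  show _ = _ ≫ Spec.map _ ≫ t
  rw [← Spec.map_comp_assoc, ← Spec.map_comp_assoc]
  congr 2
  refine CommRingCat.hom_ext (RingHom.ext fun a => ?_)
  show ((Algebra.TensorProduct.includeRight : TT A B p →ₐ[A] C ⊗[A] TT A B p).comp (ι p j)) (algebraMap A B a) =
    (algebraMap A C a) ⊗ₜ[A] (1 : TT A B p)
  rw [AlgHom.commutes]
  rfl

/-- the affine model of the Čech powers -/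
def phi (p : ℕ) : Spec (CommRingCat.of (C ⊗[A] TT A B p)) ⟶ (qo h p (TC t C)).left :=
  qlift h (Spec.map (CommRingCat.ofHom (Algebra.TensorProduct.includeLeftRingHom : C →+* C ⊗[A] TT A B p)))
    (fun j => Spec.map (CommRingCat.ofHom (((Algebra.TensorProduct.includeRight : TT A B p →ₐ[A] C ⊗[A] TT A B p).comp
      (ι p j)).toRingHom)) ≫ w) (phi_cond hw C p)

theorem phi_fst (p : ℕ) : phi hw C p ≫ qfst h p (TC t C) =
    Spec.map (CommRingCat.ofHom (Algebra.TensorProduct.includeLeftRingHom : C →+* C ⊗[A] TT A B p)) :=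
  qlift_fst _ _ _ _

theorem phi_π (p : ℕ) (j : Fin p) : phi hw C p ≫ qπ h p (TC t C) j =
    Spec.map (CommRingCat.ofHom (((Algebra.TensorProduct.includeRight : TT A B p →ₐ[A] C ⊗[A] TT A B p).comp
      (ι p j)).toRingHom)) ≫ w :=
  qlift_π _ _ _ _ j

theorem isIso_phi (p : ℕ) : IsIso (phi hw C p) := by
  let X := (qo h p (TC t C)).left
  let mC : X ⟶ Spec (CommRingCat.of C) := qfst h p (TC t C)
  let c : CommRingCat.of C ⟶ Γ(X, ⊤) := rh mC
  letI : Algebra A Γ(X, ⊤) := (c.hom.comp (algebraMap A C)).toAlgebra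
  let cA : C →ₐ[A] Γ(X, ⊤) := { c.hom with commutes' := fun a => rfl }
  have hl : ∀ j, qπ h p (TC t C) j ≫ h = (mC ≫ Spec.map (CommRingCat.ofHom (algebraMap A C))) ≫ t := fun j =>
    (qπ_f h p (TC t C) j).trans (Category.assoc _ _ _).symm
  let ℓ : Fin p → (X ⟶ Spec (CommRingCat.of B)) := fun j => hw.lift _ _ (hl j)
  have hℓ : ∀ j, CommRingCat.ofHom (algebraMap A B) ≫ rh (ℓ j) = CommRingCat.ofHom (algebraMap A C) ≫ c := fun j => by
    rw [← rh_comp_specMap, ← rh_comp_specMap, hw.lift_snd]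
  let β : Fin p → (B →ₐ[A] Γ(X, ⊤)) := fun j =>
    { (rh (ℓ j)).hom with commutes' := fun a => ConcreteCategory.congr_hom (hℓ j) a }
  let ψ : C ⊗[A] TT A B p →ₐ[A] Γ(X, ⊤) := Algebra.TensorProduct.lift cA (liftT p β) fun _ _ => .all _ _
  let inv : X ⟶ Spec (CommRingCat.of (C ⊗[A] TT A B p)) := X.toSpecΓ ≫ Spec.map (CommRingCat.ofHom ψ.toRingHom)
  have hψC : CommRingCat.ofHom (Algebra.TensorProduct.includeLeftRingHom : C →+* C ⊗[A] TT A B p) ≫
      CommRingCat.ofHom ψ.toRingHom = c := CommRingCat.hom_ext (RingHom.ext fun x => by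
    show ψ (x ⊗ₜ[A] (1 : TT A B p)) = _
    simp only [ψ, Algebra.TensorProduct.lift_tmul, map_one, mul_one]
    rfl)
  have hψB : ∀ j, CommRingCat.ofHom (((Algebra.TensorProduct.includeRight : TT A B p →ₐ[A] C ⊗[A] TT A B p).comp
      (ι p j)).toRingHom) ≫ CommRingCat.ofHom ψ.toRingHom = rh (ℓ j) := fun j => CommRingCat.hom_ext (RingHom.ext fun x => by
    show ψ ((1 : C) ⊗ₜ[A] ι p j x) = _
    simp only [ψ, Algebra.TensorProduct.lift_tmul, map_one, one_mul]
    exact AlgHom.congr_fun (liftT_ι p β j) x)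
  refine ⟨inv, ?_, ?_⟩
  · refine ext_of_isAffine ?_
    have h1 : ∀ (k : CommRingCat.of (C ⊗[A] TT A B p) ⟶ Γ(X, ⊤)),
        rh (phi hw C p ≫ X.toSpecΓ ≫ Spec.map k) = k ≫ (phi hw C p).appTop := fun k => by
      rw [rh_comp, rh_comp_specMap, rh, Scheme.toSpecΓ_appTop, Iso.inv_hom_id, Category.comp_id]
    refine (cancel_epi (Scheme.ΓSpecIso _).inv).1 ?_
    refine (h1 _).trans ?_
    rw [Scheme.Hom.id_appTop, Category.comp_id]
    let Γ' := (Scheme.ΓSpecIso (CommRingCat.of (C ⊗[A] TT A B p)))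
    have hC : (CommRingCat.ofHom (Algebra.TensorProduct.includeLeftRingHom : C →+* C ⊗[A] TT A B p) ≫
        CommRingCat.ofHom ψ.toRingHom) ≫ (phi hw C p).appTop =
        CommRingCat.ofHom (Algebra.TensorProduct.includeLeftRingHom : C →+* C ⊗[A] TT A B p) ≫ Γ'.inv := by
      rw [hψC, ← rh_comp, phi_fst, rh_specMap]
    have hB : ∀ j, (CommRingCat.ofHom (((Algebra.TensorProduct.includeRight : TT A B p →ₐ[A] C ⊗[A] TT A B p).comp
        (ι p j)).toRingHom) ≫ CommRingCat.ofHom ψ.toRingHom) ≫ (phi hw C p).appTop =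
        CommRingCat.ofHom (((Algebra.TensorProduct.includeRight : TT A B p →ₐ[A] C ⊗[A] TT A B p).comp
          (ι p j)).toRingHom) ≫ Γ'.inv := fun j => by
      rw [hψB, ← rh_comp, ← rh_specMap]
      refine congrArg rh (hw.hom_ext ?_ ?_)
      · rw [Category.assoc, hw.lift_fst, phi_π]
      · rw [Category.assoc, hw.lift_snd, reassoc_of% (phi_fst hw C p), ← Spec.map_comp, ← Spec.map_comp]
        congr 1
        refine CommRingCat.hom_ext (RingHom.ext fun a => ?_)
        show (algebraMap A C a) ⊗ₜ[A] (1 : TT A B p) =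
          ((Algebra.TensorProduct.includeRight : TT A B p →ₐ[A] C ⊗[A] TT A B p).comp (ι p j)) (algebraMap A B a)
        rw [AlgHom.commutes]
        rfl
    let f : C ⊗[A] TT A B p →+* Γ(Spec (CommRingCat.of (C ⊗[A] TT A B p)), ⊤) :=
      (phi hw C p).appTop.hom.comp ψ.toRingHom
    letI : Algebra A Γ(Spec (CommRingCat.of (C ⊗[A] TT A B p)), ⊤) :=
      (Γ'.inv.hom.comp (algebraMap A (C ⊗[A] TT A B p))).toAlgebra
    let g : C ⊗[A] TT A B p →ₐ[A] Γ(Spec (CommRingCat.of (C ⊗[A] TT A B p)), ⊤) :=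
      { Γ'.inv.hom with commutes' := fun a => rfl }
    let f' : C ⊗[A] TT A B p →ₐ[A] Γ(Spec (CommRingCat.of (C ⊗[A] TT A B p)), ⊤) :=
      { f with commutes' := fun a => ConcreteCategory.congr_hom hC (algebraMap A C a) }
    have : f' = g := Algebra.TensorProduct.ext (S := A) (A := C) (B := TT A B p)
      (AlgHom.ext fun x => ConcreteCategory.congr_hom hC x)
      (algHom_ext_TT p fun j => AlgHom.ext fun x => ConcreteCategory.congr_hom (hB j) x)
    exact CommRingCat.hom_ext (RingHom.ext fun x => AlgHom.congr_fun this x)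
  · refine qo_ext h ?_ (fun j => ?_)
    · rw [Category.assoc, phi_fst, Category.id_comp]
      show (X.toSpecΓ ≫ Spec.map _) ≫ Spec.map _ = mC
      rw [Category.assoc, ← Spec.map_comp, hψC, toSpecΓ_rh]
    · rw [Category.assoc, phi_π, Category.id_comp]
      show (X.toSpecΓ ≫ Spec.map _) ≫ Spec.map _ ≫ w = _
      rw [Category.assoc, ← Spec.map_comp_assoc, hψB, ← Category.assoc, toSpecΓ_rh, hw.lift_fst]

/-- cofaces are the omissions of factors -/
theorem phi_drop (p : ℕ) (i : Fin (p + 1)) :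
    phi hw C (p + 1) ≫ (drop h i (TC t C)).left = Spec.map (CommRingCat.ofHom (dC C p i).toRingHom) ≫ phi hw C p := by
  refine qo_ext h ?_ (fun j => ?_)
  · rw [Category.assoc, drop_fst, phi_fst, Category.assoc, phi_fst, ← Spec.map_comp]
    congr 1
    refine CommRingCat.hom_ext (RingHom.ext fun x => ?_)
    show x ⊗ₜ[A] (1 : TT A B (p + 1)) = dC C p i (x ⊗ₜ[A] (1 : TT A B p))
    rw [dC_tmul, map_one]
  · rw [Category.assoc, drop_π, phi_π, Category.assoc, phi_π, ← Spec.map_comp_assoc]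
    congr 2
    refine CommRingCat.hom_ext (RingHom.ext fun x => ?_)
    show (1 : C) ⊗ₜ[A] ι (p + 1) (i.succAbove j) x = dC C p i ((1 : C) ⊗ₜ[A] ι p j x)
    rw [dC_tmul, ← AlgHom.comp_apply (d p i), d_ι]

variable {C} in
/-- change of the base as a morphism of objects -/
def tcMap {C' : Type u} [CommRing C'] [Algebra A C'] (φ : C →ₐ[A] C') : TC t C' ⟶ TC t C :=
  Over.homMk (Spec.map (CommRingCat.ofHom φ.toRingHom)) (by
    show _ ≫ Spec.map _ ≫ t = Spec.map _ ≫ t
    rw [← Spec.map_comp_assoc]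
    congr 2
    exact CommRingCat.hom_ext φ.comp_algebraMap)

variable {C} in
theorem phi_map (p : ℕ) {C' : Type u} [CommRing C'] [Algebra A C'] (φ : C →ₐ[A] C') :
    phi hw C' p ≫ (qmap h p (tcMap (t := t) φ)).left = Spec.map (CommRingCat.ofHom (chg φ p).toRingHom) ≫ phi hw C p := by
  refine qo_ext h ?_ (fun j => ?_)
  · rw [Category.assoc, qmap_fst, reassoc_of% (phi_fst hw C' p), Category.assoc, phi_fst]
    show Spec.map _ ≫ Spec.map _ = _
    rw [← Spec.map_comp, ← Spec.map_comp]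
    congr 1
  · rw [Category.assoc, qmap_π, phi_π, Category.assoc, phi_π, ← Spec.map_comp_assoc]
    congr 2
    refine CommRingCat.hom_ext (RingHom.ext fun x => ?_)
    show (1 : C') ⊗ₜ[A] ι p j x = chg φ p ((1 : C) ⊗ₜ[A] ι p j x)
    simp [chg]

/-- sections of units over a Čech power as units of the model -/
def secU (p : ℕ) : (GmPts.unitsPre S).obj (op (qo h p (TC t C))) →+ Additive (C ⊗[A] TT A B p)ˣ :=
  (addUnits ((phi hw C p).appTop ≫ (Scheme.ΓSpecIso _).hom).hom).comp
    { toFun := fun x => Additive.ofMul (GmPts.unitOfSect x)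
      map_zero' := rfl
      map_add' := fun _ _ => rfl }

theorem secU_apply (p : ℕ) (x : (GmPts.unitsPre S).obj (op (qo h p (TC t C)))) :
    ((Additive.toMul (secU hw C p x) : (C ⊗[A] TT A B p)ˣ) : C ⊗[A] TT A B p) =
      ((phi hw C p).appTop ≫ (Scheme.ΓSpecIso _).hom) (GmPts.unitOfSect x : Γ((qo h p (TC t C)).left, ⊤)) := rfl

theorem secU_bijective (p : ℕ) : Function.Bijective (secU hw C p) := by
  haveI := isIso_phi hw C p
  let e := asIso ((phi hw C p).appTop ≫ (Scheme.ΓSpecIso _).hom)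
  refine ⟨fun x y hxy => ?_, fun v => ⟨GmPts.sectOfUnit (Units.map e.inv.hom.toMonoidHom (Additive.toMul v)), ?_⟩⟩
  · have h1 := congrArg (fun z : Additive (C ⊗[A] TT A B p)ˣ => e.inv ((Additive.toMul z : (C ⊗[A] TT A B p)ˣ) : C ⊗[A] TT A B p)) hxy
    simp only [secU_apply] at h1
    change e.inv (e.hom _) = e.inv (e.hom _) at h1
    rw [e.hom_inv_id_apply, e.hom_inv_id_apply] at h1
    exact ULift.ext _ _ (Additive.toMul.injective (Units.ext h1))
  · refine Additive.toMul.injective (Units.ext ?_)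
    show e.hom (e.inv _) = _
    exact e.inv_hom_id_apply _

theorem secU_drop (p : ℕ) (i : Fin (p + 1)) (x : (GmPts.unitsPre S).obj (op (qo h p (TC t C)))) :
    secU hw C (p + 1) ((GmPts.unitsPre S).map (drop h i (TC t C)).op x) =
      addUnits (dC C p i).toRingHom (secU hw C p x) := by
  refine Additive.toMul.injective (Units.ext ?_)
  show ((phi hw C (p + 1)).appTop ≫ (Scheme.ΓSpecIso _).hom) ((drop h i (TC t C)).left.appTop _) =
    dC C p i (((phi hw C p).appTop ≫ (Scheme.ΓSpecIso _).hom) _)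
  rw [← CommRingCat.comp_apply, ← Category.assoc, ← Scheme.Hom.comp_appTop, phi_drop, Scheme.Hom.comp_appTop,
    Category.assoc, Scheme.ΓSpecIso_naturality]
  rfl

theorem secU_cob (p : ℕ) (x : (GmPts.unitsPre S).obj (op (qo h p (TC t C)))) :
    secU hw C (p + 1) (cob h (GmPts.unitsPre S) p (TC t C) x) = δu C p (secU hw C p x) := by
  rw [cob_apply, δu_apply, map_sum]
  exact Finset.sum_congr rfl fun i _ => by rw [map_zsmul, secU_drop]

variable {C} in
theorem secU_map (p : ℕ) {C' : Type u} [CommRing C'] [Algebra A C'] (φ : C →ₐ[A] C')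
    (x : (GmPts.unitsPre S).obj (op (qo h p (TC t C)))) :
    secU hw C' p ((GmPts.unitsPre S).map (qmap h p (tcMap (t := t) φ)).op x) = chgU φ p (secU hw C p x) := by
  refine Additive.toMul.injective (Units.ext ?_)
  show ((phi hw C' p).appTop ≫ (Scheme.ΓSpecIso _).hom) ((qmap h p (tcMap (t := t) φ)).left.appTop _) =
    chg φ p (((phi hw C p).appTop ≫ (Scheme.ΓSpecIso _).hom) _)
  rw [← CommRingCat.comp_apply, ← Category.assoc, ← Scheme.Hom.comp_appTop, phi_map, Scheme.Hom.comp_appTop,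
    Category.assoc, Scheme.ΓSpecIso_naturality]
  rfl

end Groth.L07.GmFppf
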