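import Groth.Agent.L07.GmFppf.Results
import Groth.Agent.L28.EtTrace.FieldGm
import Groth.Agent.L28.Leray.Trunc
import Groth.Agent.L23.BigSite.Exactness
import Groth.Prelude.Def_GmPts2

/-!
# First fppf cohomology of the multiplicative group of a field, and of its Weil restriction
-/

universe u

open CategoryTheory CategoryTheory.Limits CategoryTheory.Abelian AlgebraicGeometry Opposite

set_option autoImplicit false
set_option backward.isDefEq.respectTransparency false
set_option backward.isDefEq.respectTransparency.types false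
set_option linter.style.haveILetI false
set_option maxHeartbeats 800000

noncomputable section

namespace Groth.L07.GmFppf

local notation "Kf" => Scheme.fppfPrecoverage

/-- restriction of units to the small étale site -/
def aPushGmIso (X : Scheme.{u}) [EtFppf.ACont X] : (EtFppf.aPush X).obj (EtDl.GmF X) ≅ EtCoh.Gm X :=
  (fullyFaithfulSheafToPresheaf _ _).preimageIso (NatIso.ofComponents (fun _ => Iso.refl _)
    fun _ => (Category.comp_id _).trans (Category.id_comp _).symm)

/-- Hilbert 90 for the flat topology -/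
theorem subsingleton_HF_GmF_field (K : Type u) [Field K] :
    Subsingleton (EtFppf.HF (Spec (CommRingCat.of K)) (EtDl.GmF (Spec (CommRingCat.of K))) 1) := by
  let X := Spec (CommRingCat.of K)
  obtain ⟨e⟩ := nonempty_H_equiv_of_acyclic X (EtDl.GmF X) (fun r hr => isZero_RaPush_units X r hr) 1
  haveI := Groth.L28.EtTrace.subsingleton_gm_one K
  have h : Subsingleton (EtCoh.H X ((EtFppf.aPush X).obj (EtDl.GmF X)) 1) :=
    ⟨fun x y => by
      have i := aPushGmIso X
      have hx : ∀ z : EtCoh.H X ((EtFppf.aPush X).obj (EtDl.GmF X)) 1,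
          (z.comp (Ext.mk₀ i.hom) (add_zero 1)).comp (Ext.mk₀ i.inv) (add_zero 1) = z := fun z => by
        rw [Ext.comp_assoc_of_third_deg_zero, Ext.mk₀_comp_mk₀, Iso.hom_inv_id, Ext.comp_mk₀_id]
      rw [← hx x, ← hx y]
      exact congrArg (fun z : EtCoh.H X (EtCoh.Gm X) 1 => z.comp (Ext.mk₀ i.inv) (add_zero 1)) (Subsingleton.elim _ _)⟩
  exact e.symm.injective.subsingleton

/-- first cohomology of a direct image injects -/
theorem subsingleton_H_one_pushBig {X S : Scheme.{u}} (f : X ⟶ S) (G : BigSite.Ab Kf X)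
    (hG : Subsingleton (BigSite.H Kf X G 1)) :
    Subsingleton (BigSite.H Kf S ((BigSite.pushBig Kf f AddCommGrpCat.{u + 1}).obj G) 1) := by
  let adj := BigSite.bigAdj Kf f AddCommGrpCat.{u + 1}
  haveI : (BigSite.pullBig Kf f AddCommGrpCat.{u + 1}).Additive := adj.left_adjoint_additive
  haveI : (BigSite.pushBig Kf f AddCommGrpCat.{u + 1}).Additive := adj.right_adjoint_additive
  haveI : PreservesFiniteLimits (BigSite.pushBig Kf f AddCommGrpCat.{u + 1}) :=
    haveI := adj.rightAdjoint_preservesLimits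
    inferInstance
  let cst : constantSheaf (QuotSh.J Kf S) AddCommGrpCat.{u + 1} ⋙ BigSite.pullBig Kf f AddCommGrpCat.{u + 1} ≅
      constantSheaf (QuotSh.J Kf X) AddCommGrpCat.{u + 1} :=
    (((constantSheafAdj (QuotSh.J Kf S) AddCommGrpCat.{u + 1} Over.mkIdTerminal).comp adj).ofNatIsoRight
        (show BigSite.pushBig Kf f AddCommGrpCat.{u + 1} ⋙
            (sheafSections (QuotSh.J Kf S) AddCommGrpCat.{u + 1}).obj (op (Over.mk (𝟙 S))) ≅
            (sheafSections (QuotSh.J Kf X) AddCommGrpCat.{u + 1}).obj (op (Over.mk (𝟙 X))) from NatIso.ofComponents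
          (fun H => H.obj.mapIso (Over.isoMk (asIso (pullback.snd (𝟙 S) f)) (Category.comp_id _) :
            (Over.pullback f).obj (Over.mk (𝟙 S)) ≅ Over.mk (𝟙 X)).symm.op)
          fun {H H'} φ => (φ.hom.naturality _).symm)).leftAdjointUniq
      (constantSheafAdj (QuotSh.J Kf X) AddCommGrpCat.{u + 1} Over.mkIdTerminal)
  let A : BigSite.Ab Kf S :=
    (constantSheaf (QuotSh.J Kf S) AddCommGrpCat.{u + 1}).obj (AddCommGrpCat.of (ULift.{u + 1} ℤ))
  have hinj := (Groth.L28.Leray.degree_one.{u + 1, u + 1} adj (A := A) G).1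
  refine ⟨fun x y => hinj ?_⟩
  have h : ∀ z : Ext.{u + 1} ((BigSite.pullBig Kf f AddCommGrpCat.{u + 1}).obj A) G 1, z = 0 := fun z => by
    have e := cst.app (AddCommGrpCat.of (ULift.{u + 1} ℤ))
    have h1 : (Ext.mk₀ e.inv).comp z (zero_add 1) = 0 :=
      Subsingleton.elim (α := BigSite.H Kf X G 1) _ _
    have h2 : (Ext.mk₀ e.hom).comp ((Ext.mk₀ e.inv).comp z (zero_add 1)) (zero_add 1) = z := by simp
    rw [← h2, h1, Ext.comp_zero]
  exact (h _).trans (h _).symm

end Groth.L07.GmFppf
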