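import Groth.Agent.L07.GmFppf.CechAdd
import Groth.Agent.L07.GmFppf.Field
import Groth.Agent.S0109
import Groth.Prelude.Def_CGrpSh

/-!
# Flat cohomology of the additive group
-/

universe u

open CategoryTheory CategoryTheory.Limits CategoryTheory.Abelian AlgebraicGeometry Opposite MonObj

set_option autoImplicit false
set_option backward.defeqAttrib.useBackward true
set_option backward.isDefEq.respectTransparency false
set_option backward.isDefEq.respectTransparency.types false
set_option linter.style.haveILetI false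
set_option maxHeartbeats 800000

noncomputable section

namespace Groth.L07.GmFppf

local notation "Ke" => Scheme.etalePrecoverage
local notation "Kf" => Scheme.fppfPrecoverage

/-- points of the additive group as functions -/
def gaEquiv {S : Scheme.{u}} (T : (Over S)ᵒᵖ) : (CGrpSh.ptsPre (Red.Ga S)).obj T ≃+ (addPre S).obj T where
  toFun x := ULift.up (Red.gaFn x.down.toMul)
  invFun x := ULift.up (Additive.ofMul (Groth.L25.GaPts.ptOfElt (fnOfSect x)))
  left_inv x := congrArg (fun t => ULift.up (Additive.ofMul t)) (Groth.L25.GaPts.ptOfElt_gaFn x.down.toMul)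
  right_inv x := congrArg ULift.up (Groth.L25.GaPts.gaFn_ptOfElt (fnOfSect x))
  map_add' x y := congrArg ULift.up (Groth.L25.GaPts.gaFn_mul x.down.toMul y.down.toMul)

/-- the presheaf of points of the additive group -/
def gaPreIso (S : Scheme.{u}) : CGrpSh.ptsPre (Red.Ga S) ≅ addPre S :=
  NatIso.ofComponents (fun T => (gaEquiv T).toAddCommGrpIso) fun {T T'} f => AddCommGrpCat.ext fun x =>
    congrArg ULift.up (Groth.L25.GaPts.gaFn_comp f.unop x.down.toMul)

theorem isAddSh_incl (S : Scheme.{u}) :
    IsAddSh S ((Groth.L27.FppfCmp.incl S).obj (CGrpSh.pts Kf (Red.Ga S))) :=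
  ⟨gaPreIso S⟩

/-- functions restrict to functions -/
def addPullIso {S S' : Scheme.{u}} (e : S' ⟶ S) : (Over.map e).op ⋙ addPre S ≅ addPre S' :=
  NatIso.ofComponents (fun _ => Iso.refl _) fun _ => (Category.comp_id _).trans (Category.id_comp _).symm

theorem isAddSh_pullBig {S S' : Scheme.{u}} (e : S' ⟶ S) (G : BigSite.Ab Ke S) (h : IsAddSh S G) :
    IsAddSh S' ((BigSite.pullBig Ke e AddCommGrpCat.{u + 1}).obj G) :=
  h.elim fun i => ⟨Functor.isoWhiskerLeft (Over.map e).op i ≪≫ addPullIso e⟩

theorem exactAt_cechSh_isAddSh {S W : Scheme.{u}} (h : W ⟶ S) [IsFinite h] [Flat h] [LocallyOfFinitePresentation h]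
    [Surjective h] (G : BigSite.Ab Ke S) (hG : IsAddSh S G) (p : ℕ) :
    (Groth.L10.EtDescent.cechSh h G).ExactAt p :=
  hG.elim fun i => exactAt_cechSh_add h i p

/-- higher direct images of the additive group to the small étale site vanish -/
theorem isZero_RaPush_add (S : Scheme.{u}) [EtFppf.ACont S] (q : ℕ) (hq : 0 < q) :
    IsZero ((EtFppf.RaPush S q).obj (CGrpSh.pts Kf (Red.Ga S))) := by
  obtain ⟨k, rfl⟩ := Nat.exists_eq_succ_of_ne_zero hq.ne'
  let L := injectiveResolution (CGrpSh.pts Kf (Red.Ga S) : EtFppf.AbF S)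
  refine IsZero.of_iso ?_ (L.isoRightDerivedObj (EtFppf.aPush S) (k + 1))
  rw [HomologicalComplex.homologyFunctor_obj, ← HomologicalComplex.exactAt_iff_isZero_homology]
  open Groth.L27.FppfCmp in
  have h : (inclN L).ExactAt (k + 1) :=
    ((inclN L).extend_exactAt_iff ComplexShape.embeddingUpNat (j := k + 1) rfl).1
      (exactAt_inclZ_le IsAddSh isAddSh_pullBig (fun h => exactAt_cechSh_isAddSh h) (k + 1) S _ L
        (isAddSh_incl S) ((k + 1 : ℕ) : ℤ) (by omega) le_rfl)
  exact h.map (BigSite.resEt Ke S)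

/-- restriction of the additive group to the small étale site -/
def aPushGaIso (X : Scheme.{u}) [EtFppf.ACont X] :
    (EtFppf.aPush X).obj (CGrpSh.pts Kf (Red.Ga X)) ≅ EtCoh.Ga X :=
  (fullyFaithfulSheafToPresheaf _ _).preimageIso
    (Functor.isoWhiskerLeft (EtFppf.a X).op (gaPreIso X) ≪≫ NatIso.ofComponents (fun _ => Iso.refl _)
      fun _ => (Category.comp_id _).trans (Category.id_comp _).symm)

/-- flat and étale cohomology of the additive group agree -/
theorem nonempty_H_equiv_add (X : Scheme.{u}) [EtFppf.ACont X] (q : ℕ) :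
    Nonempty (EtCoh.H X (EtCoh.Ga X) q ≃+ BigSite.H Kf X (CGrpSh.pts Kf (Red.Ga X)) q) := by
  obtain ⟨e⟩ := nonempty_H_equiv_of_acyclic X (CGrpSh.pts Kf (Red.Ga X)) (isZero_RaPush_add X) q
  have i := aPushGaIso X
  let f : EtCoh.H X (EtCoh.Ga X) q ≃+ EtCoh.H X ((EtFppf.aPush X).obj (CGrpSh.pts Kf (Red.Ga X))) q :=
    { toFun := fun x => x.comp (Ext.mk₀ i.inv) (add_zero q)
      invFun := fun x => x.comp (Ext.mk₀ i.hom) (add_zero q)
      left_inv := fun x => by simp
      right_inv := fun x => by simp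
      map_add' := fun x y => Ext.add_comp _ _ _ _ }
  exact ⟨f.trans e⟩

/-- flat cohomology of the additive group of an affine scheme vanishes -/
theorem subsingleton_H_add (X : Scheme.{u}) [IsAffine X] [EtFppf.ACont X] (q : ℕ) (hq : 1 ≤ q) :
    Subsingleton (BigSite.H Kf X (CGrpSh.pts Kf (Red.Ga X)) q) := by
  obtain ⟨e⟩ := nonempty_H_equiv_add X q
  haveI := Groth.Agent.S0109.result X q hq
  exact e.symm.injective.subsingleton

end Groth.L07.GmFppf
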