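import Mathlib.RingTheory.TensorProduct.Maps
import Mathlib.RingTheory.Flat.FaithfullyFlat.Basic
import Mathlib.Algebra.Category.CommAlgCat.Basic
import Mathlib.Data.Fin.SuccPred
import Mathlib.Algebra.BigOperators.Fin

/-!
# The Amitsur complex with recursive tensor powers
-/

universe u

open TensorProduct

set_option autoImplicit false
set_option backward.isDefEq.respectTransparency false
set_option backward.isDefEq.respectTransparency.types false
set_option linter.style.haveILetI false

noncomputable section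

namespace Groth.L07.GmFppf

/-- alternating compositions of coface maps vanish -/
theorem alt_sum_comp {A0 A1 A2 : Type*} [AddCommGroup A0] [AddCommGroup A1] [AddCommGroup A2] {p : ℕ}
    (a : Fin (p + 1) → (A0 →+ A1)) (b : Fin (p + 2) → (A1 →+ A2))
    (h : ∀ i j : Fin (p + 1), i ≤ j → ∀ x, b j.succ (a i x) = b i.castSucc (a j x)) (x : A0) :
    (∑ i : Fin (p + 2), (-1 : ℤ) ^ (i : ℕ) • b i (∑ j : Fin (p + 1), (-1 : ℤ) ^ (j : ℕ) • a j x)) = 0 := by
  classical
  simp only [map_sum, map_zsmul, Finset.smul_sum, smul_smul, ← Finset.sum_product']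
  let P := Fin (p + 2) × Fin (p + 1)
  let Sset : Finset P := {ij : P | (ij.1 : ℕ) ≤ (ij.2 : ℕ)}
  show ∑ ij : P, ((-1 : ℤ) ^ (ij.1 : ℕ) * (-1) ^ (ij.2 : ℕ)) • b ij.1 (a ij.2 x) = 0
  rw [← Finset.sum_add_sum_compl Sset, ← eq_neg_iff_add_eq_zero, ← Finset.sum_neg_distrib]
  let φ : ∀ ij : P, ij ∈ Sset → P := fun ij hij =>
    (ij.2.succ, Fin.castLT ij.1 (lt_of_le_of_lt (Finset.mem_filter.mp hij).right (Fin.is_lt ij.2)))
  apply Finset.sum_bij φ
  · intro ij hij
    simp_rw [Sset, φ, Finset.compl_filter, Finset.mem_filter_univ, Fin.val_succ, Fin.val_castLT] at hij ⊢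
    omega
  · rintro ⟨i, j⟩ hij ⟨i', j'⟩ hij' he
    have h1 : j = j' := Fin.succ_inj.1 (congrArg Prod.fst he)
    have h2 : (i : ℕ) = i' := congrArg (fun a : P => (a.2 : ℕ)) he
    exact Prod.ext (Fin.ext h2) h1
  · rintro ⟨i', j'⟩ hij'
    simp_rw [Sset, Finset.compl_filter, Finset.mem_filter_univ, not_le] at hij'
    refine ⟨(Fin.castSucc j', i'.pred ?_), ?_, ?_⟩
    · rintro rfl
      simp only [Fin.val_zero, not_lt_zero] at hij'
    · simp [Sset]; omega
    · simp only [φ, Fin.castLT_castSucc, Fin.succ_pred]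
  · rintro ⟨i, j⟩ hij
    have hij' : (i : ℕ) ≤ (j : ℕ) := (Finset.mem_filter.mp hij).right
    let i' : Fin (p + 1) := i.castLT (lt_of_le_of_lt hij' j.is_lt)
    have e := h i' j (Fin.le_def.2 hij') x
    rw [show i'.castSucc = i from rfl] at e
    simp only [φ, Fin.val_succ, Fin.val_castLT]
    rw [← neg_smul, ← e]
    congr 1
    ring

variable (A B : Type u) [CommRing A] [CommRing B] [Algebra A B]

/-- tensor powers, bundled -/
def TP : ℕ → CommAlgCat.{u} A
  | 0 => CommAlgCat.of A A
  | p + 1 => CommAlgCat.of A (B ⊗[A] TP p)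

/-- tensor powers -/
abbrev TT (p : ℕ) : Type u := TP A B p

variable {A B}

/-- adding a first factor equal to one -/
def inR (p : ℕ) : TT A B p →ₐ[A] TT A B (p + 1) :=
  (Algebra.TensorProduct.includeRight : TT A B p →ₐ[A] B ⊗[A] TT A B p)

/-- the first factor -/
def inL (p : ℕ) : B →ₐ[A] TT A B (p + 1) :=
  (Algebra.TensorProduct.includeLeft : B →ₐ[A] B ⊗[A] TT A B p)

/-- keeping the first factor -/
def mapR {p q : ℕ} (f : TT A B p →ₐ[A] TT A B q) : TT A B (p + 1) →ₐ[A] TT A B (q + 1) :=
  (Algebra.TensorProduct.map (AlgHom.id A B) f : B ⊗[A] TT A B p →ₐ[A] B ⊗[A] TT A B q)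

theorem mapR_inR {p q : ℕ} (f : TT A B p →ₐ[A] TT A B q) (x : TT A B p) :
    mapR f (inR p x) = inR q (f x) := by
  show Algebra.TensorProduct.map (AlgHom.id A B) f ((1 : B) ⊗ₜ[A] x) = (1 : B) ⊗ₜ[A] f x
  simp

theorem mapR_inL {p q : ℕ} (f : TT A B p →ₐ[A] TT A B q) (b : B) :
    mapR f (inL p b) = inL q b := by
  show Algebra.TensorProduct.map (AlgHom.id A B) f (b ⊗ₜ[A] (1 : TT A B p)) = b ⊗ₜ[A] (1 : TT A B q)
  simp

theorem mapR_comp {p q r : ℕ} (f : TT A B p →ₐ[A] TT A B q) (g : TT A B q →ₐ[A] TT A B r) :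
    mapR (g.comp f) = (mapR g).comp (mapR f) :=
  (Algebra.TensorProduct.map_comp (AlgHom.id A B) (AlgHom.id A B) g f :)

/-- maps out of a tensor power -/
theorem algHom_ext_succ {p : ℕ} {C : Type*} [CommRing C] [Algebra A C] {f g : TT A B (p + 1) →ₐ[A] C}
    (h1 : ∀ b, f (inL p b) = g (inL p b)) (h2 : ∀ x, f (inR p x) = g (inR p x)) : f = g :=
  Algebra.TensorProduct.ext (S := A) (A := B) (B := TT A B p) (C := C) (AlgHom.ext h1) (AlgHom.ext h2)

/-- the cofaces -/
def d : ∀ (p : ℕ), Fin (p + 1) → (TT A B p →ₐ[A] TT A B (p + 1))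
  | 0 => fun _ => inR 0
  | p + 1 => Fin.cases (inR (p + 1)) fun i => mapR (d p i)

theorem d_zero (p : ℕ) : (d p 0 : TT A B p →ₐ[A] TT A B (p + 1)) = inR p := by
  cases p <;> rfl

theorem d_succ (p : ℕ) (i : Fin (p + 1)) :
    (d (p + 1) i.succ : TT A B (p + 1) →ₐ[A] TT A B (p + 2)) = mapR (d p i) := rfl

theorem d_d : ∀ (p : ℕ) (i j : Fin (p + 1)), i ≤ j →
    ((d (p + 1) j.succ).comp (d p i) : TT A B p →ₐ[A] TT A B (p + 2)) = (d (p + 1) i.castSucc).comp (d p j) := by
  intro p
  induction p with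
  | zero =>
    intro i j hij
    obtain rfl : i = 0 := Fin.fin_one_eq_zero i
    obtain rfl : j = 0 := Fin.fin_one_eq_zero j
    exact AlgHom.ext fun x => mapR_inR (inR 0) x
  | succ p ih =>
    intro i j hij
    induction i using Fin.cases with
    | zero =>
      refine AlgHom.ext fun x => ?_
      rw [AlgHom.comp_apply, AlgHom.comp_apply, Fin.castSucc_zero, d_succ, d_zero, d_zero, mapR_inR]
    | succ i =>
      induction j using Fin.cases with
      | zero => exact absurd hij (by simp [Fin.le_def])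
      | succ j =>
        rw [← Fin.succ_castSucc, d_succ (p + 1), d_succ (p + 1), d_succ p, d_succ p, ← mapR_comp, ← mapR_comp]
        exact congrArg mapR (ih i j (by simpa using hij))

/-- the additive differential -/
def D (p : ℕ) : TT A B p →ₗ[A] TT A B (p + 1) :=
  ∑ i : Fin (p + 1), (-1 : ℤ) ^ (i : ℕ) • (d p i).toLinearMap

theorem D_apply (p : ℕ) (x : TT A B p) : D p x = ∑ i : Fin (p + 1), (-1 : ℤ) ^ (i : ℕ) • d p i x := by
  simp [D]

theorem D_zero : (D 0 : TT A B 0 →ₗ[A] TT A B 1) = (inR 0).toLinearMap := by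
  simp [D, d_zero]

/-- keeping the first factor, linearly -/
def mapL {p q : ℕ} (f : TT A B p →ₗ[A] TT A B q) : TT A B (p + 1) →ₗ[A] TT A B (q + 1) :=
  (LinearMap.lTensor B f : B ⊗[A] TT A B p →ₗ[A] B ⊗[A] TT A B q)

theorem mapL_tmul {p q : ℕ} (f : TT A B p →ₗ[A] TT A B q) (b : B) (x : TT A B p) :
    mapL f (b ⊗ₜ[A] x) = b ⊗ₜ[A] f x := rfl

/-- induction on elements of a tensor power -/
@[elab_as_elim]
theorem induction_succ {p : ℕ} {P : TT A B (p + 1) → Prop} (x : TT A B (p + 1))
    (h0 : P 0) (ht : ∀ (b : B) (t : TT A B p), P (b ⊗ₜ[A] t)) (ha : ∀ x y, P x → P y → P (x + y)) : P x :=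
  TensorProduct.induction_on (motive := P) x h0 ht ha

theorem D_succ_apply (p : ℕ) (x : TT A B (p + 1)) : D (p + 1) x = inR (p + 1) x - mapL (D p) x := by
  rw [D_apply, Fin.sum_univ_succ]
  simp only [Fin.val_zero, pow_zero, one_smul, d_zero, Fin.val_succ, d_succ, pow_succ, mul_neg, mul_one, neg_smul,
    Finset.sum_neg_distrib]
  rw [sub_eq_add_neg]
  congr 2
  induction x using induction_succ with
  | h0 => simp
  | ht b t =>
    rw [mapL_tmul, D_apply, TensorProduct.tmul_sum]
    refine Finset.sum_congr rfl fun i _ => ?_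
    rw [TensorProduct.tmul_smul]
    refine congrArg _ ?_
    show Algebra.TensorProduct.map (AlgHom.id A B) (d p i) (b ⊗ₜ[A] t) = _
    rw [Algebra.TensorProduct.map_tmul]
    rfl
  | ha x y hx hy => simp only [map_add, smul_add, Finset.sum_add_distrib, hx, hy]

theorem D_D (p : ℕ) (x : TT A B p) : D (p + 1) (D p x) = 0 := by
  rw [D_apply, D_apply]
  exact alt_sum_comp (fun i => (d p i).toLinearMap.toAddMonoidHom) (fun i => (d (p + 1) i).toLinearMap.toAddMonoidHom)
    (fun i j h x => AlgHom.congr_fun (d_d p i j h) x) x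

/-- multiplying the first two factors -/
def σ (p : ℕ) : TT A B (p + 2) →ₗ[A] TT A B (p + 1) :=
  ((LinearMap.rTensor (TT A B p) (LinearMap.mul' A B)).comp
    (TensorProduct.assoc A B B (TT A B p)).symm.toLinearMap :
      B ⊗[A] (B ⊗[A] TT A B p) →ₗ[A] B ⊗[A] TT A B p)

theorem σ_tmul (p : ℕ) (b b' : B) (t : TT A B p) :
    σ p (b ⊗ₜ[A] (b' ⊗ₜ[A] t : TT A B (p + 1))) = (b * b') ⊗ₜ[A] t := by
  simp [σ]
  rfl

theorem σ_inR (p : ℕ) (x : TT A B (p + 1)) : σ p (inR (p + 1) x) = x := by
  induction x using induction_succ with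
  | h0 => simp
  | ht b t => exact (σ_tmul p 1 b t).trans (by rw [one_mul])
  | ha x y hx hy => simp only [map_add, hx, hy]

theorem σ_mapL_inR (p : ℕ) (x : TT A B (p + 1)) : σ p (mapL (inR p).toLinearMap x) = x := by
  induction x using induction_succ with
  | h0 => simp
  | ht b t => exact (σ_tmul p b 1 t).trans (by rw [mul_one])
  | ha x y hx hy => simp only [map_add, hx, hy]

theorem σ_mapL_mapL (p : ℕ) (f : TT A B p →ₗ[A] TT A B (p + 1)) (x : TT A B (p + 2)) :
    σ (p + 1) (mapL (mapL f) x) = mapL f (σ p x) := by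
  induction x using induction_succ with
  | h0 => simp
  | ht b t =>
    induction t using induction_succ with
    | h0 => simp
    | ht b' t => rw [mapL_tmul, mapL_tmul, σ_tmul, σ_tmul, mapL_tmul]
    | ha s t hs ht => simp only [TensorProduct.tmul_add, map_add, hs, ht]
  | ha x y hx hy => simp only [map_add, hx, hy]

/-- the contraction after adjoining a first factor, in degree zero -/
theorem contr_zero : (σ 0).comp (mapL (D 0)) = (LinearMap.id : TT A B 1 →ₗ[A] TT A B 1) :=
  LinearMap.ext fun x => by rw [LinearMap.comp_apply, D_zero, σ_mapL_inR]; rfl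

/-- the contraction after adjoining a first factor -/
theorem contr_succ (p : ℕ) (x : TT A B (p + 2)) :
    σ (p + 1) (mapL (D (p + 1)) x) + mapL (D p) (σ p x) = x := by
  have e : mapL (D (p + 1)) x = mapL (inR (p + 1)).toLinearMap x - mapL (mapL (D p)) x := by
    induction x using induction_succ with
    | h0 => simp
    | ht b t => simp only [mapL_tmul, D_succ_apply, AlgHom.toLinearMap_apply, TensorProduct.tmul_sub]
    | ha x y hx hy => simp only [map_add, hx, hy]; abel
  rw [e, map_sub, σ_mapL_inR, σ_mapL_mapL, sub_add_cancel]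

section Module

variable (M : Type*) [AddCommGroup M] [Module A M]

/-- moving the new factor inside -/
def shift (p : ℕ) : B ⊗[A] (M ⊗[A] TT A B p) ≃ₗ[A] M ⊗[A] TT A B (p + 1) :=
  TensorProduct.leftComm A B M (TT A B p)

theorem shift_natural {p q : ℕ} (f : TT A B p →ₗ[A] TT A B q) (x : B ⊗[A] (M ⊗[A] TT A B p)) :
    shift M q (LinearMap.lTensor B (LinearMap.lTensor M f) x) = LinearMap.lTensor M (mapL f) (shift M p x) := by
  induction x using TensorProduct.induction_on with
  | zero => simp
  | tmul b y =>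
    induction y using TensorProduct.induction_on with
    | zero => simp
    | tmul m t => rfl
    | add y z hy hz => simp only [TensorProduct.tmul_add, map_add, hy, hz]
  | add x y hx hy => simp only [map_add, hx, hy]

theorem lTensor_D_D (p : ℕ) (x : M ⊗[A] TT A B p) :
    LinearMap.lTensor M (D (p + 1)) (LinearMap.lTensor M (D p) x) = 0 := by
  rw [← LinearMap.comp_apply, ← LinearMap.lTensor_comp,
    show (D (p + 1)).comp (D p) = (0 : TT A B p →ₗ[A] TT A B (p + 2)) from LinearMap.ext (D_D p),
    LinearMap.lTensor_zero, LinearMap.zero_apply]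

/-- the Amitsur complex with coefficients in a module is exact -/
theorem exact_D [Module.FaithfullyFlat A B] (p : ℕ) :
    Function.Exact (LinearMap.lTensor M (D (A := A) (B := B) p)) (LinearMap.lTensor M (D (p + 1))) := by
  refine (Module.FaithfullyFlat.lTensor_exact_iff_exact A B _ _).1 fun x => ⟨fun hx => ?_, ?_⟩
  · refine ⟨(shift M p).symm (LinearMap.lTensor M (σ p) (shift M (p + 1) x)), (shift M (p + 1)).injective ?_⟩
    rw [shift_natural, LinearEquiv.apply_symm_apply]
    have h0 : LinearMap.lTensor M (mapL (D (p + 1))) (shift M (p + 1) x) = 0 := by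
      rw [← shift_natural, hx, map_zero]
    have e := congrArg (fun f : TT A B (p + 2) →ₗ[A] TT A B (p + 2) => LinearMap.lTensor M f (shift M (p + 1) x))
      (LinearMap.ext (contr_succ p) :
        (σ (p + 1)).comp (mapL (D (p + 1))) + (mapL (D p)).comp (σ p) = LinearMap.id)
    simp only [LinearMap.lTensor_add, LinearMap.add_apply, LinearMap.lTensor_comp, LinearMap.comp_apply,
      LinearMap.lTensor_id, LinearMap.id_apply, h0, map_zero, zero_add] at e
    exact e
  · rintro ⟨y, rfl⟩
    apply (shift M (p + 2)).injective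
    rw [shift_natural, shift_natural, map_zero, ← LinearMap.comp_apply, ← LinearMap.lTensor_comp]
    have : (mapL (D (p + 1))).comp (mapL (D p)) = (0 : TT A B (p + 1) →ₗ[A] TT A B (p + 3)) := by
      refine LinearMap.ext fun t => ?_
      induction t using induction_succ with
      | h0 => simp
      | ht b t => rw [LinearMap.comp_apply, mapL_tmul, mapL_tmul, D_D, TensorProduct.tmul_zero]; rfl
      | ha s t hs ht => simp only [map_add, hs, ht]
    rw [this, LinearMap.lTensor_zero, LinearMap.zero_apply]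

/-- the augmentation with coefficients in a module is injective -/
theorem injective_D_zero [Module.FaithfullyFlat A B] :
    Function.Injective (LinearMap.lTensor M (D (A := A) (B := B) 0)) := by
  refine (Module.FaithfullyFlat.lTensor_injective_iff_injective A B _).1 fun x y hxy => (shift M 0).injective ?_
  have h := congrArg (fun t => LinearMap.lTensor M (σ 0) (shift M 1 t)) hxy
  simp only [shift_natural, ← LinearMap.comp_apply, ← LinearMap.lTensor_comp, contr_zero, LinearMap.lTensor_id,
    LinearMap.id_apply] at h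
  exact h

end Module

end Groth.L07.GmFppf
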