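import Groth.Agent.L10.EtDescent.Refine
import Groth.Agent.L23.BigSite.BaseChange
import Groth.Agent.S0071

/-!
# Descent along finite morphisms on the big étale site with a given Čech exactness
-/

universe u

open CategoryTheory CategoryTheory.Limits AlgebraicGeometry Opposite

set_option autoImplicit false
set_option backward.defeqAttrib.useBackward true
set_option backward.isDefEq.respectTransparency false
set_option backward.isDefEq.respectTransparency.types false
set_option linter.style.haveILetI false
set_option maxHeartbeats 1000000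

namespace Groth.L07.GmFppf

open Groth.L10.EtDescent

local notation "Ke" => Scheme.etalePrecoverage

variable {S : Scheme.{u}}

/-- a big sheaf without sections on the small sites is zero -/
theorem isZero_of_resEtAlong (H : BigSite.Ab Ke S)
    (h : ∀ T : Over S, IsZero ((BigSite.resEtAlong Ke T.hom).obj H)) : IsZero H := by
  rw [IsZero.iff_id_eq_zero]
  refine Sheaf.hom_ext (NatTrans.ext (funext fun T => AddCommGrpCat.hom_ext (AddMonoidHom.ext fun x => ?_)))
  obtain ⟨T⟩ := T
  let e : (Over.map T.hom).obj ((EtFppf.a T.left).obj (EtCoh.top T.left)) ≅ T :=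
    Over.isoMk (Iso.refl _) rfl
  have h1 : Subsingleton (H.obj.obj (op ((Over.map T.hom).obj ((EtFppf.a T.left).obj (EtCoh.top T.left))))) :=
    AddCommGrpCat.subsingleton_of_isZero (((sheafToPresheaf _ _).map_isZero (h T)).obj (op (EtCoh.top T.left)))
  have h2 : ∀ y : H.obj.obj (op T), H.obj.map e.inv.op (H.obj.map e.hom.op y) = y := fun y => by
    rw [← ConcreteCategory.comp_apply, ← Functor.map_comp, ← op_comp, e.inv_hom_id, op_id,
      CategoryTheory.Functor.map_id]
    rfl
  refine (h2 _).symm.trans (Eq.trans ?_ (h2 _))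
  exact congrArg _ (h1.elim _ _)

/-- higher direct images along a finite morphism vanish on the big étale site -/
theorem isZero_Rpush_big {W : Scheme.{u}} (b : W ⟶ S) [IsFinite b] (F : BigSite.Ab Ke W) (q : ℕ) (hq : 0 < q) :
    IsZero ((BigSite.RpushBig Ke b q).obj F) :=
  isZero_of_resEtAlong _ fun T => (Groth.Agent.S0071.result (pullback.snd b T.hom) _ q hq).of_iso
    (Groth.L23.Big.nonempty_resEtAlong_Rpush b T.hom (pullback.fst b T.hom) (pullback.snd b T.hom)
      (IsPullback.of_hasPullback b T.hom) F q).some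

variable {W : Scheme.{u}} (h : W ⟶ S) {G : BigSite.Ab Ke S} (R : InjectiveResolution G)

/-- columns are exact in positive degrees -/
theorem exactAt_col_any [IsFinite h] (p : ℕ) (j : ℤ) (hj : 1 ≤ j) :
    (((colFun h p).mapHomologicalComplex (ComplexShape.up ℤ)).obj R.cochainComplex).ExactAt j := by
  haveI := isFinite_wb h p
  obtain ⟨k, rfl⟩ : ∃ k : ℕ, j = (k : ℤ) + 1 := ⟨(j - 1).toNat, by omega⟩
  let b := wb h p
  let P := BigSite.pullBig Ke b AddCommGrpCat.{u + 1}
  let F := P ⋙ BigSite.pushBig Ke b AddCommGrpCat.{u + 1}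
  have h0 : IsZero ((F.rightDerived (k + 1)).obj G) :=
    (isZero_Rpush_big b (P.obj G) (k + 1) (by omega)).of_iso
      (Groth.L23.Big.nonempty_rightDerived_comm F (BigSite.pushBig Ke b AddCommGrpCat.{u + 1}) P (𝟭 _)
        (Functor.rightUnitor _) G (k + 1)).some
  have h1 : ((F.mapHomologicalComplex _).obj R.cocomplex).ExactAt (k + 1) :=
    (HomologicalComplex.exactAt_iff_isZero_homology _ _).2 (h0.of_iso (R.isoRightDerivedObj F (k + 1)).symm)
  rw [HomologicalComplex.exactAt_iff' _ k (k + 1) (k + 2) (by simp) (by simp)] at h1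
  rw [HomologicalComplex.exactAt_iff' _ (k : ℤ) ((k : ℤ) + 1) ((k : ℤ) + 2) (by simp) (by simp; omega)]
  refine (ShortComplex.exact_iff_of_iso ?_).1 h1
  refine ShortComplex.isoMk
    ((colIso h p).app _ ≪≫ (colFun h p).mapIso (R.cochainComplexXIso (k : ℤ) k rfl).symm)
    ((colIso h p).app _ ≪≫ (colFun h p).mapIso (R.cochainComplexXIso ((k : ℤ) + 1) (k + 1) (by simp)).symm)
    ((colIso h p).app _ ≪≫ (colFun h p).mapIso (R.cochainComplexXIso ((k : ℤ) + 2) (k + 2) (by simp)).symm) ?_ ?_
  · simp only [Iso.trans_hom, Iso.app_hom, Functor.mapIso_hom, Iso.symm_hom, HomologicalComplex.shortComplexFunctor'_obj_f,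
      Functor.mapHomologicalComplex_obj_d, Category.assoc, ← Functor.map_comp,
      R.cochainComplex_d (k : ℤ) ((k : ℤ) + 1) k (k + 1) rfl (by simp), Iso.inv_hom_id_assoc]
    simp
  · simp only [Iso.trans_hom, Iso.app_hom, Functor.mapIso_hom, Iso.symm_hom, HomologicalComplex.shortComplexFunctor'_obj_g,
      Functor.mapHomologicalComplex_obj_d, Category.assoc, ← Functor.map_comp,
      R.cochainComplex_d ((k : ℤ) + 1) ((k : ℤ) + 2) (k + 1) (k + 2) (by simp) (by simp), Iso.inv_hom_id_assoc]
    simp

/-- total degree zero and the zeroth row, given Čech exactness -/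
theorem exists_boundary_low_of (hcech : ∀ p, (cechSh h G).ExactAt p) (n : ℤ) (T : Over S)
    (r : TotX (datum h) (preCx R.cochainComplex) (n + 1) T)
    (hr : totD (datum h) (preCx R.cochainComplex) (n + 1) T r = 0)
    (hlow : ∀ (p : ℕ) (j : ℤ) (e : (p : ℤ) + j = n + 1), 1 ≤ j → r p j e = 0) :
    ∃ R' ∈ QuotSh.J Ke S T, ∀ ⦃T' : Over S⦄ (a : T' ⟶ T), R' a → ∃ y,
      totD (datum h) (preCx R.cochainComplex) n T' y = totMap (datum h) (preCx R.cochainComplex) (n + 1) a r := by
  have hneg : ∀ (p : ℕ) (j : ℤ) (T' : Over S), j < 0 →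
      Subsingleton ((R.cochainComplex.X j).obj.obj (op (qo h p T'))) := fun p j T' hj =>
    AddCommGrpCat.subsingleton_of_isZero ((secF (qo h p T')).map_isZero
      (R.cochainComplex.isZero_of_isStrictlyGE 0 j hj))
  by_cases hn : n + 1 < 0
  · refine ⟨⊤, GrothendieckTopology.top_mem _ T, fun T' a _ => ⟨0, ?_⟩⟩
    rw [map_zero]
    funext p j e
    haveI := hneg p j T' (by omega)
    exact Subsingleton.elim (α := (R.cochainComplex.X j).obj.obj (op (qo h p T'))) _ _
  obtain ⟨P, hP⟩ : ∃ P : ℕ, (P : ℤ) = n + 1 := ⟨(n + 1).toNat, by omega⟩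
  let x : (R.cochainComplex.X 0).obj.obj (op (qo h P T)) := r P 0 (by omega)
  have hdx : (R.cochainComplex.d 0 1).hom.app _ x = 0 := by
    have e1 := congrFun (congrFun (congrFun hr P) 1) (by omega)
    have e2 : ((P : ℤ).negOnePow : ℤ) • (R.cochainComplex.d 0 1).hom.app (op (qo h P T)) x = 0 := by
      cases P with
      | zero =>
        rw [totD_zero_apply] at e1
        refine Eq.trans ?_ e1
        simp
        rfl
      | succ k =>
        rw [totD_succ_apply, hlow k 1 (by push_cast at hP ⊢; omega) le_rfl, map_zero, zero_add] at e1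
        exact e1
    rcases Int.units_eq_one_or (P : ℤ).negOnePow with hs | hs <;> simpa [hs] using e2
  obtain ⟨g, hg⟩ : ∃ g : G.obj.obj (op (qo h P T)), (aug R).hom.app _ g = x :=
    haveI : Mono (ShortComplex.mk (aug R) (R.cochainComplex.d 0 1) (aug_d R)).f := mono_aug R
    exists_preimage_sec (exact_aug R) (qo h P T) x hdx
  have hδg : cob h G.obj P T g = 0 := by
    refine injective_aug_sec R (qo h (P + 1) T) (Eq.trans ?_ (map_zero _).symm)
    have e1 := congrFun (congrFun (congrFun hr (P + 1)) 0) (by push_cast; omega)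
    rw [totD_succ_apply] at e1
    haveI := hneg (P + 1) (0 - 1) T (by omega)
    rw [show r (P + 1) (0 - 1) (by push_cast; omega) = 0 from
      Subsingleton.elim (α := (R.cochainComplex.X (0 - 1)).obj.obj (op (qo h (P + 1) T))) _ _, map_zero, smul_zero,
      add_zero] at e1
    exact (cob_nat h (aug R) P T g).trans ((congrArg (cob h (R.cochainComplex.X 0).obj P T) hg).trans e1)
  cases P with
  | zero =>
    have hex := hcech 0
    rw [HomologicalComplex.exactAt_iff' _ 0 0 1 (by simp) (by simp), exact_iff_locally] at hex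
    obtain ⟨R', hR', hR''⟩ := hex T g ((cechSh_d_app h G 0 T g).trans hδg)
    refine ⟨R', hR', fun T' a ha => ⟨0, ?_⟩⟩
    obtain ⟨g', hg'⟩ := hR'' a ha
    have h0 : G.obj.map (((datum h).Q 0).map a).op g = 0 := by
      refine Eq.trans hg'.symm ?_
      exact ConcreteCategory.congr_hom (congrArg (fun φ : colSh h 0 G ⟶ colSh h 0 G => φ.hom.app (op T'))
        ((cechSh h G).shape 0 0 (by simp))) g'
    rw [map_zero]
    funext p j e
    change (0 : _) = (R.cochainComplex.X j).obj.map (((datum h).Q p).map a).op (r p j e)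
    rcases lt_trichotomy j 0 with hj | rfl | hj
    · haveI := hneg p j T' hj
      exact Subsingleton.elim (α := (R.cochainComplex.X j).obj.obj (op (qo h p T'))) _ _
    · obtain rfl : p = 0 := by omega
      change _ = (R.cochainComplex.X 0).obj.map _ x
      rw [← hg]
      refine Eq.trans ?_ (NatTrans.naturality_apply (aug R).hom (((datum h).Q 0).map a).op g)
      rw [h0, map_zero]
    · rw [hlow p j e (by omega), map_zero]
  | succ k =>
    have hex := hcech (k + 1)
    rw [HomologicalComplex.exactAt_iff' _ k (k + 1) (k + 2) (by simp) (by simp), exact_iff_locally] at hex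
    obtain ⟨R', hR', hR''⟩ := hex T g ((cechSh_d_app h G (k + 1) T g).trans hδg)
    refine ⟨R', hR', fun T' a ha => ?_⟩
    obtain ⟨g', hg'⟩ := hR'' a ha
    have hg'' : cob h G.obj k T' g' = G.obj.map (((datum h).Q (k + 1)).map a).op g :=
      (cechSh_d_app h G k T' g').symm.trans hg'
    let v : ∀ j : ℤ, (k : ℤ) + j = n → ((preCx R.cochainComplex).X j).obj (op (((datum h).Q k).obj T')) := fun j e =>
      (eqToHom (by rw [show j = 0 by push_cast at hP; omega]) :
        (R.cochainComplex.X 0).obj.obj (op (qo h k T')) ⟶ (R.cochainComplex.X j).obj.obj (op (qo h k T')))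
        ((aug R).hom.app _ g')
    refine ⟨oneCol (datum h) (preCx R.cochainComplex) k v, ?_⟩
    have hv : ∀ e, v 0 e = (aug R).hom.app _ g' := fun e => by
      simp only [v, eqToHom_refl]
      rfl
    funext p j e
    change _ = (R.cochainComplex.X j).obj.map (((datum h).Q p).map a).op (r p j e)
    rcases lt_trichotomy j 0 with hj | rfl | hj
    · haveI := hneg p j T' hj
      exact Subsingleton.elim (α := (R.cochainComplex.X j).obj.obj (op (qo h p T'))) _ _
    · obtain rfl : p = k + 1 := by push_cast at hP; omega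
      rw [totD_succ_apply, oneCol_self, oneCol_ne _ _ k v (k + 1) (by omega), map_zero, smul_zero, add_zero,
        hv (by push_cast at hP ⊢; omega)]
      change _ = (R.cochainComplex.X 0).obj.map _ x
      rw [← hg]
      refine Eq.trans ?_ (NatTrans.naturality_apply (aug R).hom (((datum h).Q (k + 1)).map a).op g)
      rw [← hg'']
      exact (cob_nat h (aug R) k T' g').symm
    · rw [hlow p j e (by omega), map_zero]
      cases p with
      | zero =>
        rw [totD_zero_apply]
        by_cases hk : k = 0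
        · subst hk
          obtain rfl : j = 1 := by push_cast at hP; omega
          rw [oneCol_self]
          have key : ∀ i e', i = 0 → (R.cochainComplex.d i 1).hom.app _ (v i e') = 0 := by
            rintro i e' rfl
            rw [hv e']
            exact ConcreteCategory.congr_hom (congrArg (fun φ : G ⟶ R.cochainComplex.X 1 => φ.hom.app _) (aug_d R)) g'
          exact key (1 - 1) (by push_cast at hP ⊢; omega) (by norm_num)
        · rw [oneCol_ne _ _ k v 0 (by omega), map_zero]
      | succ q =>
        rw [totD_succ_apply, oneCol_ne _ _ k v q (by push_cast at hP e; omega), map_zero, zero_add]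
        by_cases hq : q + 1 = k
        · subst hq
          obtain rfl : j = 1 := by push_cast at hP e; omega
          rw [oneCol_self]
          have key : ∀ i e', i = 0 → (R.cochainComplex.d i 1).hom.app _ (v i e') = 0 := by
            rintro i e' rfl
            rw [hv e']
            exact ConcreteCategory.congr_hom (congrArg (fun φ : G ⟶ R.cochainComplex.X 1 => φ.hom.app _) (aug_d R)) g'
          exact (congrArg _ (key (1 - 1) (by push_cast at hP ⊢; omega) (by norm_num))).trans (smul_zero _)
        · rw [oneCol_ne _ _ k v (q + 1) hq, map_zero, smul_zero]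

/-- exactness for a finite morphism with exact Čech complex -/
theorem exactAtObj_finite_of [IsFinite h] (hcech : ∀ p, (cechSh h G).ExactAt p) (T : Over S) :
    ExactAtObj (totCx (datum h) (preCx R.cochainComplex)) T := by
  refine exactAtObj_of_lexact h R.cochainComplex (lexact_totCx _ _ _ ?_) T
  intro n T z hz
  obtain ⟨S1, hS1, hS1'⟩ := lexact_tot_ge (datum h) (preCx R.cochainComplex) (QuotSh.J Ke S) 1
    (fun p j hj T z hz => by
      have hex := exactAt_col_any h R p j hj
      rw [HomologicalComplex.exactAt_iff' _ (j - 1) j (j + 1) (by simp) (by simp), exact_iff_locally] at hex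
      exact hex T z hz) n T z hz
  refine ⟨Sieve.mk (fun T' g => ∃ y, totD (datum h) (preCx R.cochainComplex) n T' y =
      totMap (datum h) (preCx R.cochainComplex) (n + 1) g z) ?_, (QuotSh.J Ke S).transitive hS1 _ ?_, fun T' g hg => hg⟩
  · rintro T' T'' g ⟨y, hy⟩ a
    refine ⟨totMap (datum h) (preCx R.cochainComplex) n a y, ?_⟩
    rw [totD_totMap, hy]
    funext p j e
    simp [totMap]
  intro T' g hg
  obtain ⟨y, hy⟩ := hS1' g hg
  obtain ⟨S2, hS2, hS2'⟩ := exists_boundary_low_of h R hcech n T'
    (totMap (datum h) (preCx R.cochainComplex) (n + 1) g z - totD (datum h) (preCx R.cochainComplex) n T' y)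
    (by rw [map_sub, totD_totMap, hz, map_zero, totD_totD, sub_zero]) hy
  refine (QuotSh.J Ke S).superset_covering (fun T'' a ha => ?_) hS2
  obtain ⟨w, hw⟩ := hS2' a ha
  refine ⟨w + totMap (datum h) (preCx R.cochainComplex) n a y, ?_⟩
  rw [map_add, hw, map_sub, totD_totMap, sub_add_cancel]
  funext p j e
  simp [totMap]

variable {h}

/-- descent for morphisms refined by a finite surjective one -/
theorem exactAtObj_dominated_of {Z W : Scheme.{u}} (g : Z ⟶ S) (h : W ⟶ S) [IsFinite h]
    (hcech : ∀ p, (cechSh h G).ExactAt p)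
    (k : W ⟶ Z) (hk : k ≫ g = h) (T : Over S) : ExactAtObj (totCx (datum g) (preCx R.cochainComplex)) T := by
  have hA := exactAtObj_finite_of h R hcech
  have htot : ExactAtObj (totCx (datum g) (totCx (datum h) (preCx R.cochainComplex))) T := by
    refine (exactAtObj_totCx_iff _ _ T).2 fun n z hz => ?_
    obtain ⟨Sv, hSv, hSv'⟩ := lexact_tot (datum g) (totCx (datum h) (preCx R.cochainComplex))
      (GrothendieckTopology.trivial _) 0 (fun j hj => isZero_totPre R h j hj)
      (fun p j T z hz => ⟨⊤, GrothendieckTopology.top_mem _ _, fun T' a _ => by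
        obtain ⟨y, hy⟩ := hA (((datum g).Q p).obj T) j z hz
        refine ⟨((totCx (datum h) (preCx R.cochainComplex)).X (j - 1)).map (((datum g).Q p).map a).op y, ?_⟩
        rw [NatTrans.naturality_apply ((totCx (datum h) (preCx R.cochainComplex)).d (j - 1) j) _ y, hy]⟩) n T z hz
    rw [GrothendieckTopology.trivial_covering] at hSv
    obtain ⟨y, hy⟩ := hSv' (𝟙 T) (by rw [hSv]; trivial)
    refine ⟨y, hy.trans ?_⟩
    funext p j e
    simp [totMap]
  have hswap := exactAtObj_swap (datum g) (datum h) (preCx R.cochainComplex) (compatD g h) (compatE g h) T htot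
  have hcol : ∀ q : ℕ, ExactAtObj (totCx (datum g) (preCx R.cochainComplex)) (((datum h).Q (q + 1)).obj T) :=
    fun q => exactAtObj_of_section g (T := qo h (q + 1) T) (qπ h (q + 1) T 0 ≫ k)
      ((Category.assoc _ _ _).trans ((congrArg (_ ≫ ·) hk).trans (qπ_f h (q + 1) T 0))) _
  exact (exactAtObj_extract (datum h) _ T hswap hcol).of_iso (qZeroIso h T).symm

/-- the criterion for descent -/
theorem exactAtObj_descent_of {X : Scheme.{u}} (f : X ⟶ S)
    (hcech : ∀ {S' W : Scheme.{u}} (e : S' ⟶ S) (h : W ⟶ S') [IsFinite h] [Flat h] [LocallyOfFinitePresentation h]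
      [Surjective h] (p : ℕ), (cechSh h ((BigSite.pullBig Ke e AddCommGrpCat.{u + 1}).obj G)).ExactAt p)
    (hloc : ∀ s : S, ∃ (S' : Scheme.{u}) (e : S' ⟶ S) (_ : Etale e) (_ : s ∈ Set.range e.base)
      (W : Scheme.{u}) (h : W ⟶ S') (_ : IsFinite h) (_ : Flat h) (_ : LocallyOfFinitePresentation h) (_ : Surjective h)
      (k : W ⟶ X), k ≫ f = h ≫ e) (T : Over S) :
    ExactAtObj (totCx (datum f) (preCx R.cochainComplex)) T := by
  refine exactAtObj_of_lexact f R.cochainComplex (fun n => lexact_of_exactAtObj (fun T => ?_) n) T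
  let Rv : Sieve T :=
    { arrows := fun T' _ => ∃ (S' : Scheme.{u}) (e : S' ⟶ S) (W : Scheme.{u}) (h : W ⟶ S') (_ : IsFinite h)
        (_ : Flat h) (_ : LocallyOfFinitePresentation h) (_ : Surjective h) (k : W ⟶ X), k ≫ f = h ≫ e ∧ ∃ g : T'.left ⟶ S', g ≫ e = T'.hom
      downward_closed := by
        rintro T' T'' a ⟨S', e, W, h, h1, hfl, hfp, h2, k, hk, g, hg⟩ b
        exact ⟨S', e, W, h, h1, hfl, hfp, h2, k, hk, b.left ≫ g, by rw [Category.assoc, hg, Over.w b]⟩ }
  refine ⟨Rv, ?_, ?_⟩
  · refine Groth.L27.Fppf.mem_Jet.2 fun t => ?_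
    obtain ⟨S', e, he, ⟨s', hs'⟩, W, h, h1, hfl, hfp, h2, k, hk⟩ := hloc (T.hom.base t)
    obtain ⟨y, hy1, -⟩ := Scheme.Pullback.exists_preimage_pullback (f := T.hom) (g := e) t s' hs'.symm
    exact ⟨Over.mk (pullback.fst T.hom e ≫ T.hom), Over.homMk (pullback.fst T.hom e) rfl, y,
      ⟨S', e, W, h, h1, hfl, hfp, h2, k, hk, pullback.snd T.hom e, pullback.condition.symm⟩,
      inferInstanceAs (Etale (pullback.fst T.hom e)), hy1⟩
  · rintro T' a ⟨S', e, W, h, h1, hfl, hfp, h2, k, hk, g, hg⟩
    have e1 : ExactAtObj (totCx (datum (pullback.snd f e)) (resCxP (Over.map e) (preCx R.cochainComplex))) (Over.mk g) :=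
      exactAtObj_totCx_of_iso _ (pullResIso R e) _ (exactAtObj_dominated_of (pullRes R e)
        (pullback.snd f e) h (fun p => hcech e h p) (pullback.lift k h hk) (pullback.lift_snd _ _ _) (Over.mk g))
    exact (exactAtObj_baseChange f e _ _ e1).of_iso (Over.isoMk (Iso.refl _) ((Category.id_comp (g ≫ e)).trans hg) : T' ≅ (Over.map e).obj (Over.mk g))

end Groth.L07.GmFppf
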