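import Groth.Agent.L07.GmFppf.Affine
import Groth.Agent.L10.EtDescent.Finite
import Mathlib.RingTheory.Finiteness.ModuleFinitePresentation

/-!
# The Čech complex of units of a finite locally free morphism is étale locally exact
-/

universe u

open TensorProduct AlgebraicGeometry CategoryTheory CategoryTheory.Limits Opposite

set_option autoImplicit false
set_option backward.defeqAttrib.useBackward true
set_option backward.isDefEq.respectTransparency false
set_option backward.isDefEq.respectTransparency.types false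
set_option linter.style.haveILetI false

noncomputable section

namespace Groth.L07.GmFppf

open Groth.L10.EtDescent (qo qmap datum cob cob_apply cechSh cechSh_d_app colSh)

local notation "Ke" => Scheme.etalePrecoverage

variable {S W : Scheme.{u}} (h : W ⟶ S) [IsFinite h] [Flat h] [LocallyOfFinitePresentation h] [Surjective h]

/-- an affine piece of the base, with the finite algebra over it -/
theorem exists_chart (T : Over S) (x : T.left) :
    ∃ (A B : Type u) (_ : CommRing A) (_ : CommRing B) (_ : Algebra A B) (_ : Module.Finite A B)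
      (_ : Module.Projective A B) (_ : Module.FaithfullyFlat A B)
      (t : Spec (CommRingCat.of A) ⟶ S) (w : Spec (CommRingCat.of B) ⟶ W)
      (_ : IsPullback w (Spec.map (CommRingCat.ofHom (algebraMap A B))) h t)
      (j : TC t A ⟶ T) (a : (TC t A).left), IsOpenImmersion j.left ∧ j.left a = x := by
  obtain ⟨U, hU, hxU, -⟩ := exists_isAffineOpen_mem_and_subset (X := T.left) (x := x) (U := ⊤) trivial
  obtain ⟨a, ha⟩ : ∃ a, hU.fromSpec a = x := by
    have : x ∈ Set.range hU.fromSpec := by rw [hU.range_fromSpec]; exact hxU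
    exact this
  let A : Type u := Γ(T.left, U)
  let t : Spec (CommRingCat.of A) ⟶ S := hU.fromSpec ≫ T.hom
  let P := pullback h t
  haveI : IsFinite (pullback.snd h t) := inferInstance
  haveI : IsAffine P := isAffine_of_isAffineHom (pullback.snd h t)
  let B : Type u := Γ(P, ⊤)
  let γ : CommRingCat.of A ⟶ CommRingCat.of B := Spec.preimage (P.isoSpec.inv ≫ pullback.snd h t)
  letI : Algebra A B := γ.hom.toAlgebra
  have hγ : Spec.map (CommRingCat.ofHom (algebraMap A B)) = P.isoSpec.inv ≫ pullback.snd h t := Spec.map_preimage _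
  haveI hfin : Module.Finite A B := RingHom.finite_algebraMap.1
    ((IsFinite.SpecMap_iff (CommRingCat.ofHom (algebraMap A B))).1 (by rw [hγ]; infer_instance))
  haveI hfl : Module.Flat A B := RingHom.flat_algebraMap_iff.1
    ((HasRingHomProperty.Spec_iff (P := @Flat) (φ := CommRingCat.ofHom (algebraMap A B))).1 (by rw [hγ]; infer_instance))
  haveI hfp : Algebra.FinitePresentation A B := RingHom.finitePresentation_algebraMap.1
    ((HasRingHomProperty.Spec_iff (P := @LocallyOfFinitePresentation) (φ := CommRingCat.ofHom (algebraMap A B))).1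
      (by rw [hγ]; infer_instance))
  haveI : Module.FinitePresentation A B := Module.FinitePresentation.of_finite_of_finitePresentation A B
  haveI : Module.Projective A B := Module.Flat.projective_of_finitePresentation
  haveI : Surjective (Spec.map (CommRingCat.ofHom (algebraMap A B))) := by rw [hγ]; infer_instance
  have hs : Function.Surjective (PrimeSpectrum.comap (algebraMap A B)) :=
    (Spec.map (CommRingCat.ofHom (algebraMap A B))).surjective
  haveI : Module.FaithfullyFlat A B := Module.FaithfullyFlat.of_comap_surjective hs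
  refine ⟨A, B, inferInstance, inferInstance, inferInstance, inferInstance, inferInstance, inferInstance, t,
    P.isoSpec.inv ≫ pullback.fst h t, ?_, Over.homMk hU.fromSpec ?_, a, ?_,
    ha⟩
  · exact (IsPullback.of_hasPullback h t).of_iso P.isoSpec (Iso.refl _) (Iso.refl _) (Iso.refl _)
      (by simp) (by rw [hγ]; simp) (by simp) (by simp)
  · show hU.fromSpec ≫ T.hom = Spec.map _ ≫ t
    rw [show (CommRingCat.ofHom (algebraMap A A) : CommRingCat.of A ⟶ CommRingCat.of A) = 𝟙 _ from rfl, Spec.map_id]
    exact (Category.id_comp t).symm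
  · exact inferInstanceAs (IsOpenImmersion hU.fromSpec)

/-- a cocycle of units is étale locally a coboundary -/
theorem units_cocycle_locally (p : ℕ) (T : Over S) (z : (GmPts.unitsPre S).obj (op (qo h (p + 1) T)))
    (hz : cob h (GmPts.unitsPre S) (p + 1) T z = 0) :
    ∃ R ∈ QuotSh.J Ke S T, ∀ ⦃T' : Over S⦄ (a : T' ⟶ T), R a → ∃ y,
      cob h (GmPts.unitsPre S) p T' y = (GmPts.unitsPre S).map (qmap h (p + 1) a).op z := by
  let R : Sieve T :=
    { arrows := fun T' a => ∃ y, cob h (GmPts.unitsPre S) p T' y = (GmPts.unitsPre S).map (qmap h (p + 1) a).op z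
      downward_closed := by
        rintro T₁ T₂ a ⟨y, hy⟩ c
        refine ⟨(GmPts.unitsPre S).map (qmap h p c).op y, ?_⟩
        refine ((datum h).δ_natT (GmPts.unitsPre S) p c y).symm.trans ?_
        show (GmPts.unitsPre S).map (qmap h (p + 1) c).op (cob h _ p _ y) = _
        rw [hy, ← ConcreteCategory.comp_apply, ← Functor.map_comp, ← op_comp]
        exact congrArg (fun m => (GmPts.unitsPre S).map (Quiver.Hom.op m) z) ((Groth.L10.EtDescent.qF h (p + 1)).map_comp c a).symm }
  refine ⟨R, Groth.L27.Fppf.mem_Jet.2 fun x => ?_, fun T' a ha => ha⟩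
  obtain ⟨A, B, _, _, _, _, _, _, t, w, hw, j, a, hj, hja⟩ := exists_chart h T x
  let zA := secU hw A (p + 1) ((GmPts.unitsPre S).map (qmap h (p + 1) j).op z)
  have hzA : δu A (p + 1) zA = 0 := by
    rw [← secU_cob]
    refine (congrArg (secU hw A (p + 1 + 1)) ?_).trans (map_zero _)
    refine ((datum h).δ_natT (GmPts.unitsPre S) (p + 1) j z).symm.trans ?_
    exact (congrArg ((GmPts.unitsPre S).map (qmap h (p + 1 + 1) j).op) hz).trans (map_zero _)
  obtain ⟨C, _, _, hC1, hC2, wC, hwC⟩ := exists_etale_solution p zA hzA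
  let c : TC t C ⟶ TC t A := tcMap (t := t) (Algebra.ofId A C)
  have hc : c.left = Spec.map (CommRingCat.ofHom (algebraMap A C)) := rfl
  obtain ⟨a', ha'⟩ := (Spec.map (CommRingCat.ofHom (algebraMap A C))).surjective a
  obtain ⟨y, hy⟩ := (secU_bijective hw C p).2 wC
  refine ⟨TC t C, c ≫ j, a', ⟨y, ?_⟩, ?_, ?_⟩
  · refine (secU_bijective hw C (p + 1)).1 ?_
    rw [secU_cob, hy, hwC, ← secU_map]
    refine congrArg (secU hw C (p + 1)) ?_
    rw [← ConcreteCategory.comp_apply, ← Functor.map_comp, ← op_comp]
    exact congrArg (fun m => (GmPts.unitsPre S).map (Quiver.Hom.op m) z) ((Groth.L10.EtDescent.qF h (p + 1)).map_comp c j).symm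
  · haveI := hC1
    haveI := hj
    exact inferInstanceAs (AlgebraicGeometry.Etale (Spec.map (CommRingCat.ofHom (algebraMap A C)) ≫ j.left))
  · exact (Scheme.Hom.comp_apply _ j.left a').trans ((congrArg j.left ha').trans hja)

/-- a cocycle of degree zero is locally zero -/
theorem units_cocycle_zero (T : Over S) (z : (GmPts.unitsPre S).obj (op (qo h 0 T)))
    (hz : cob h (GmPts.unitsPre S) 0 T z = 0) :
    ∃ R ∈ QuotSh.J Ke S T, ∀ ⦃T' : Over S⦄ (a : T' ⟶ T), R a →
      (GmPts.unitsPre S).map (qmap h 0 a).op z = 0 := by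
  let R : Sieve T :=
    { arrows := fun T' a => (GmPts.unitsPre S).map (qmap h 0 a).op z = 0
      downward_closed := by
        intro T₁ T₂ a ha c
        have e : qmap h 0 (c ≫ a) = qmap h 0 c ≫ qmap h 0 a := (Groth.L10.EtDescent.qF h 0).map_comp c a
        rw [e, op_comp, Functor.map_comp, ConcreteCategory.comp_apply, ha, map_zero] }
  refine ⟨R, Groth.L27.Fppf.mem_Jet.2 fun x => ?_, fun T' a ha => ha⟩
  obtain ⟨A, B, _, _, _, _, _, _, t, w, hw, j, a, hj, hja⟩ := exists_chart h T x
  refine ⟨TC t A, j, a, (secU_bijective hw A 0).1 ?_, inferInstance, hja⟩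
  rw [map_zero]
  let zA := secU hw A 0 ((GmPts.unitsPre S).map (qmap h 0 j).op z)
  have hzA : δu A 0 zA = 0 := by
    rw [← secU_cob]
    refine (congrArg (secU hw A 1) ?_).trans (map_zero _)
    refine ((datum h).δ_natT (GmPts.unitsPre S) 0 j z).symm.trans ?_
    exact (congrArg ((GmPts.unitsPre S).map (qmap h 1 j).op) hz).trans (map_zero _)
  rw [δu_apply, Fin.sum_univ_one, Fin.val_zero, pow_zero, one_smul] at hzA
  have h1 := congrArg (fun v : Additive (A ⊗[A] TT A B (0 + 1))ˣ =>
    ((Additive.toMul v : (A ⊗[A] TT A B (0 + 1))ˣ) : A ⊗[A] TT A B (0 + 1))) hzA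
  refine Additive.toMul.injective (Units.ext ?_)
  refine injective_D_zero (A := A) (B := B) A ?_
  rw [lTensor_D_apply, lTensor_D_apply, Fin.sum_univ_one, Fin.sum_univ_one, Fin.val_zero, pow_zero, one_smul, one_smul]
  exact h1.trans (map_one _).symm

/-- the Čech complex of a sheaf of units is exact -/
theorem exactAt_cechSh_units {G : BigSite.Ab Ke S} (e : G.obj ≅ GmPts.unitsPre S) (p : ℕ) :
    (cechSh h G).ExactAt p := by
  have hnat : ∀ (q : ℕ) (T : Over S) (x : G.obj.obj (op (qo h q T))),
      e.hom.app _ (cob h G.obj q T x) = cob h (GmPts.unitsPre S) q T (e.hom.app _ x) := fun q T x =>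
    (datum h).δ_natF e.hom q T x
  have hinj : ∀ (U : (Over S)ᵒᵖ), Function.Injective (e.hom.app U) := fun U =>
    ConcreteCategory.injective_of_mono_of_preservesPullback (e.hom.app U)
  cases p with
  | zero =>
    rw [HomologicalComplex.exactAt_iff' _ 0 0 1 (by simp) (by simp), Groth.L10.EtDescent.exact_iff_locally]
    intro T z hz
    have hz' : cob h (GmPts.unitsPre S) 0 T (e.hom.app _ z) = 0 := by
      rw [← hnat, show cob h G.obj 0 T z = 0 from (cechSh_d_app h G 0 T z).symm.trans hz, map_zero]
    obtain ⟨R, hR, hR'⟩ := units_cocycle_zero h T _ hz'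
    refine ⟨R, hR, fun T' a ha => ⟨0, (map_zero _).trans (hinj _ ?_)⟩⟩
    rw [map_zero]
    exact ((NatTrans.naturality_apply e.hom (qmap h 0 a).op z).trans (hR' a ha)).symm
  | succ k =>
    rw [HomologicalComplex.exactAt_iff' _ k (k + 1) (k + 2) (by simp) (by simp), Groth.L10.EtDescent.exact_iff_locally]
    intro T z hz
    have hz' : cob h (GmPts.unitsPre S) (k + 1) T (e.hom.app _ z) = 0 := by
      rw [← hnat, show cob h G.obj (k + 1) T z = 0 from (cechSh_d_app h G (k + 1) T z).symm.trans hz, map_zero]
    obtain ⟨R, hR, hR'⟩ := units_cocycle_locally h k T _ hz'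
    refine ⟨R, hR, fun T' a ha => ?_⟩
    obtain ⟨y, hy⟩ := hR' a ha
    refine ⟨e.inv.app _ y, hinj _ ?_⟩
    refine (congrArg _ (cechSh_d_app h G k T' _)).trans ((hnat k T' _).trans ?_)
    refine (congrArg (cob h (GmPts.unitsPre S) k T') (ConcreteCategory.congr_hom
      (e.inv_hom_id_app (op (qo h k T'))) y)).trans ?_
    exact hy.trans (NatTrans.naturality_apply e.hom (qmap h (k + 1) a).op z).symm

end Groth.L07.GmFppf
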