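import Groth.Agent.L07.GmFppf.Induction
import Groth.Agent.L07.GmFppf.CechExact
import Groth.Agent.L27.FppfCmp.Results
import Groth.Prelude.Def_EtDlF

/-!
# Étale against fppf cohomology of the multiplicative group
-/

universe u

open CategoryTheory CategoryTheory.Limits CategoryTheory.Abelian AlgebraicGeometry Opposite

set_option autoImplicit false
set_option backward.defeqAttrib.useBackward true
set_option backward.isDefEq.respectTransparency false
set_option backward.isDefEq.respectTransparency.types false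
set_option linter.style.haveILetI false
set_option maxHeartbeats 800000

noncomputable section

namespace Groth.L07.GmFppf

open Groth.L27.FppfCmp

local notation "Ke" => Scheme.etalePrecoverage
local notation "Kf" => Scheme.fppfPrecoverage

/-- being a sheaf of units -/
def IsUnitsSh (S : Scheme.{u}) (G : BigSite.Ab Ke S) : Prop := Nonempty (G.obj ≅ GmPts.unitsPre S)

/-- units restrict to units -/
def unitsPullIso {S S' : Scheme.{u}} (e : S' ⟶ S) : (Over.map e).op ⋙ GmPts.unitsPre S ≅ GmPts.unitsPre S' :=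
  NatIso.ofComponents (fun _ => Iso.refl _) fun _ => (Category.comp_id _).trans (Category.id_comp _).symm

theorem isUnitsSh_pullBig {S S' : Scheme.{u}} (e : S' ⟶ S) (G : BigSite.Ab Ke S) (h : IsUnitsSh S G) :
    IsUnitsSh S' ((BigSite.pullBig Ke e AddCommGrpCat.{u + 1}).obj G) :=
  h.elim fun i => ⟨Functor.isoWhiskerLeft (Over.map e).op i ≪≫ unitsPullIso e⟩

theorem exactAt_cechSh_isUnitsSh {S W : Scheme.{u}} (h : W ⟶ S) [IsFinite h] [Flat h] [LocallyOfFinitePresentation h]
    [Surjective h] (G : BigSite.Ab Ke S) (hG : IsUnitsSh S G) (p : ℕ) :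
    (Groth.L10.EtDescent.cechSh h G).ExactAt p :=
  hG.elim fun i => exactAt_cechSh_units h i p

variable {S : Scheme.{u}}

theorem isUnitsSh_incl (S : Scheme.{u}) : IsUnitsSh S ((incl S).obj (EtDl.GmF S)) := ⟨Iso.refl _⟩

/-- fppf injective resolutions of units are exact on the big étale site -/
theorem exactAt_inclZ_units (L : InjectiveResolution (EtDl.GmF S)) (m : ℤ) (hm : 1 ≤ m) : (inclZ L).ExactAt m :=
  exactAt_inclZ_le IsUnitsSh isUnitsSh_pullBig (fun h => exactAt_cechSh_isUnitsSh h) m.toNat S _ L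
    (isUnitsSh_incl S) m hm (by omega)

/-- higher direct images of units to the small étale site vanish -/
theorem isZero_RaPush_units (S : Scheme.{u}) [EtFppf.ACont S] (q : ℕ) (hq : 0 < q) :
    IsZero ((EtFppf.RaPush S q).obj (EtDl.GmF S)) := by
  obtain ⟨k, rfl⟩ := Nat.exists_eq_succ_of_ne_zero hq.ne'
  let L := injectiveResolution (EtDl.GmF S)
  refine IsZero.of_iso ?_ (L.isoRightDerivedObj (EtFppf.aPush S) (k + 1))
  rw [HomologicalComplex.homologyFunctor_obj, ← HomologicalComplex.exactAt_iff_isZero_homology]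
  have h : (inclN L).ExactAt (k + 1) :=
    ((inclN L).extend_exactAt_iff ComplexShape.embeddingUpNat (j := k + 1) rfl).1
      (exactAt_inclZ_units L ((k + 1 : ℕ) : ℤ) (by omega))
  exact h.map (BigSite.resEt Ke S)

/-- sheaves acyclic for the comparison have equal étale and fppf cohomology -/
theorem nonempty_H_equiv_of_acyclic (S : Scheme.{u}) [EtFppf.ACont S] (G : EtFppf.AbF S)
    (hG : ∀ r : ℕ, 0 < r → IsZero ((EtFppf.RaPush S r).obj G)) (q : ℕ) :
    Nonempty (EtCoh.H S ((EtFppf.aPush S).obj G) q ≃+ EtFppf.HF S G q) := by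
  haveI := preservesFiniteLimits_aPull S
  haveI : PreservesFiniteColimits (EtFppf.aPull S) :=
    haveI := (EtFppf.aAdj S).leftAdjoint_preservesColimits
    inferInstance
  haveI : (EtFppf.aPull S).Additive := (EtFppf.aAdj S).left_adjoint_additive
  haveI : PreservesFiniteLimits (EtFppf.aPush S) :=
    haveI := (EtFppf.aAdj S).rightAdjoint_preservesLimits
    inferInstance
  let A := EtCoh.const S ℤ
  let Z := AddCommGrpCat.of (ULift.{u + 1} ℤ)
  have hb := Groth.L27.ExtAdj.bijective_phi.{u + 1, u + 1} (EtFppf.aAdj S) (A := A) q G hG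
  let ψ : EtFppf.HF S G q → Ext.{u + 1} ((EtFppf.aPull S).obj A) G q := fun x =>
    (Ext.mk₀ ((constAIso S).app Z).hom).comp x (zero_add q)
  let e₂ : Ext.{u + 1} A ((EtFppf.aPush S).obj G) q ≃+ Ext.{u + 1} ((EtFppf.aPull S).obj A) G q :=
    AddEquiv.ofBijective
      (AddMonoidHom.mk' (Groth.L27.ExtAdj.phi.{u + 1, u + 1} (EtFppf.aAdj S) (A := A) G q) fun x y => by
        simp [Groth.L27.ExtAdj.phi, Ext.mapExactFunctor_add, Ext.add_comp]) hb
  let e₃ : Ext.{u + 1} ((EtFppf.aPull S).obj A) G q ≃+ EtFppf.HF S G q :=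
    { toFun := fun x => (Ext.mk₀ ((constAIso S).app Z).inv).comp x (zero_add q)
      invFun := ψ
      left_inv := fun x => by simp [ψ]
      right_inv := fun x => by simp [ψ]
      map_add' := fun x y => Ext.comp_add _ _ _ _ }
  exact ⟨e₂.trans e₃⟩

end Groth.L07.GmFppf
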