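import Groth.Agent.L07.GmFppf.CechExact
import Groth.Agent.L07.GmFppf.Results
import Groth.Agent.L25.GaPts

/-!
# The Čech complex of the additive group of a finite locally free morphism is Zariski locally exact
-/

universe u

open TensorProduct AlgebraicGeometry CategoryTheory CategoryTheory.Limits Opposite

set_option autoImplicit false
set_option backward.defeqAttrib.useBackward true
set_option backward.isDefEq.respectTransparency false
set_option backward.isDefEq.respectTransparency.types false
set_option linter.style.haveILetI false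

noncomputable section

namespace Groth.L07.GmFppf

open Groth.L10.EtDescent (qo qmap datum cob cob_apply cechSh cechSh_d_app colSh drop)

local notation "Ke" => Scheme.etalePrecoverage

/-- global functions, additively -/
abbrev addPre (S : Scheme.{u}) : (Over S)ᵒᵖ ⥤ AddCommGrpCat.{u + 1} := (Over.forget S).op ⋙ EtCoh.ΓAdd.{u}

/-- being a sheaf of functions -/
def IsAddSh (S : Scheme.{u}) (G : BigSite.Ab Ke S) : Prop := Nonempty (G.obj ≅ addPre S)

/-- a section as a function -/
def fnOfSect {S : Scheme.{u}} {T : (Over S)ᵒᵖ} (x : (addPre S).obj T) : Γ((unop T).left, ⊤) := x.down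

theorem fnOfSect_map {S : Scheme.{u}} {T T' : Over S} (g : T' ⟶ T) (x : (addPre S).obj (op T)) :
    fnOfSect ((addPre S).map g.op x) = g.left.appTop (fnOfSect x) := rfl

section Affine

variable {A B : Type u} [CommRing A] [CommRing B] [Algebra A B] {S W : Scheme.{u}} {h : W ⟶ S}
  {t : Spec (CommRingCat.of A) ⟶ S} {w : Spec (CommRingCat.of B) ⟶ W}
  (hw : IsPullback w (Spec.map (CommRingCat.ofHom (algebraMap A B))) h t)
  (C : Type u) [CommRing C] [Algebra A C]

/-- sections over a Čech power as elements of the model -/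
def secA (p : ℕ) : (addPre S).obj (op (qo h p (TC t C))) →+ C ⊗[A] TT A B p :=
  ((phi hw C p).appTop ≫ (Scheme.ΓSpecIso _).hom).hom.toAddMonoidHom.comp
    { toFun := fun x => fnOfSect x
      map_zero' := rfl
      map_add' := fun _ _ => rfl }

theorem secA_apply (p : ℕ) (x : (addPre S).obj (op (qo h p (TC t C)))) :
    secA hw C p x = ((phi hw C p).appTop ≫ (Scheme.ΓSpecIso _).hom) (fnOfSect x) := rfl

theorem secA_bijective (p : ℕ) : Function.Bijective (secA hw C p) := by
  haveI := isIso_phi hw C p
  let e := asIso ((phi hw C p).appTop ≫ (Scheme.ΓSpecIso _).hom)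
  refine ⟨fun x y hxy => ?_, fun v => ⟨ULift.up (e.inv v), ?_⟩⟩
  · have h1 := congrArg e.inv hxy
    simp only [secA_apply] at h1
    change e.inv (e.hom _) = e.inv (e.hom _) at h1
    rw [e.hom_inv_id_apply, e.hom_inv_id_apply] at h1
    exact ULift.ext _ _ h1
  · exact e.inv_hom_id_apply v

theorem secA_drop (p : ℕ) (i : Fin (p + 1)) (x : (addPre S).obj (op (qo h p (TC t C)))) :
    secA hw C (p + 1) ((addPre S).map (drop h i (TC t C)).op x) = dC C p i (secA hw C p x) := by
  show ((phi hw C (p + 1)).appTop ≫ (Scheme.ΓSpecIso _).hom) ((drop h i (TC t C)).left.appTop _) =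
    dC C p i (((phi hw C p).appTop ≫ (Scheme.ΓSpecIso _).hom) _)
  rw [← CommRingCat.comp_apply, ← Category.assoc, ← Scheme.Hom.comp_appTop, phi_drop, Scheme.Hom.comp_appTop,
    Category.assoc, Scheme.ΓSpecIso_naturality]
  rfl

theorem secA_cob (p : ℕ) (x : (addPre S).obj (op (qo h p (TC t C)))) :
    secA hw C (p + 1) (cob h (addPre S) p (TC t C) x) = LinearMap.lTensor C (D p) (secA hw C p x) := by
  rw [cob_apply, lTensor_D_apply, map_sum]
  exact Finset.sum_congr rfl fun i _ => by rw [map_zsmul, secA_drop]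

end Affine

variable {S W : Scheme.{u}} (h : W ⟶ S) [IsFinite h] [Flat h] [LocallyOfFinitePresentation h] [Surjective h]

/-- a cocycle of functions is Zariski locally a coboundary -/
theorem add_cocycle_locally (p : ℕ) (T : Over S) (z : (addPre S).obj (op (qo h (p + 1) T)))
    (hz : cob h (addPre S) (p + 1) T z = 0) :
    ∃ R ∈ QuotSh.J Ke S T, ∀ ⦃T' : Over S⦄ (a : T' ⟶ T), R a → ∃ y,
      cob h (addPre S) p T' y = (addPre S).map (qmap h (p + 1) a).op z := by
  let R : Sieve T :=
    { arrows := fun T' a => ∃ y, cob h (addPre S) p T' y = (addPre S).map (qmap h (p + 1) a).op z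
      downward_closed := by
        rintro T₁ T₂ a ⟨y, hy⟩ c
        refine ⟨(addPre S).map (qmap h p c).op y, ?_⟩
        refine ((datum h).δ_natT (addPre S) p c y).symm.trans ?_
        show (addPre S).map (qmap h (p + 1) c).op (cob h _ p _ y) = _
        rw [hy, ← ConcreteCategory.comp_apply, ← Functor.map_comp, ← op_comp]
        exact congrArg (fun m => (addPre S).map (Quiver.Hom.op m) z) ((Groth.L10.EtDescent.qF h (p + 1)).map_comp c a).symm }
  refine ⟨R, Groth.L27.Fppf.mem_Jet.2 fun x => ?_, fun T' a ha => ha⟩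
  obtain ⟨A, B, _, _, _, _, _, _, t, w, hw, j, a, hj, hja⟩ := exists_chart h T x
  let zA := secA hw A (p + 1) ((addPre S).map (qmap h (p + 1) j).op z)
  have hzA : LinearMap.lTensor A (D (p + 1)) zA = 0 := by
    rw [← secA_cob]
    refine (congrArg (secA hw A (p + 1 + 1)) ?_).trans (map_zero _)
    refine ((datum h).δ_natT (addPre S) (p + 1) j z).symm.trans ?_
    exact (congrArg ((addPre S).map (qmap h (p + 1 + 1) j).op) hz).trans (map_zero _)
  obtain ⟨wA, hwA⟩ := (exact_D (A := A) (B := B) A p zA).1 hzA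
  obtain ⟨y, hy⟩ := (secA_bijective hw A p).2 wA
  refine ⟨TC t A, j, a, ⟨y, ?_⟩, inferInstance, hja⟩
  refine (secA_bijective hw A (p + 1)).1 ?_
  rw [secA_cob, hy]
  exact hwA

/-- a cocycle of degree zero is locally zero -/
theorem add_cocycle_zero (T : Over S) (z : (addPre S).obj (op (qo h 0 T)))
    (hz : cob h (addPre S) 0 T z = 0) :
    ∃ R ∈ QuotSh.J Ke S T, ∀ ⦃T' : Over S⦄ (a : T' ⟶ T), R a →
      (addPre S).map (qmap h 0 a).op z = 0 := by
  let R : Sieve T :=
    { arrows := fun T' a => (addPre S).map (qmap h 0 a).op z = 0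
      downward_closed := by
        intro T₁ T₂ a ha c
        have e : qmap h 0 (c ≫ a) = qmap h 0 c ≫ qmap h 0 a := (Groth.L10.EtDescent.qF h 0).map_comp c a
        rw [e, op_comp, Functor.map_comp, ConcreteCategory.comp_apply, ha, map_zero] }
  refine ⟨R, Groth.L27.Fppf.mem_Jet.2 fun x => ?_, fun T' a ha => ha⟩
  obtain ⟨A, B, _, _, _, _, _, _, t, w, hw, j, a, hj, hja⟩ := exists_chart h T x
  refine ⟨TC t A, j, a, (secA_bijective hw A 0).1 ?_, inferInstance, hja⟩
  rw [map_zero]
  refine injective_D_zero (A := A) (B := B) A ?_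
  rw [map_zero, ← secA_cob]
  refine (congrArg (secA hw A 1) ?_).trans (map_zero _)
  refine ((datum h).δ_natT (addPre S) 0 j z).symm.trans ?_
  exact (congrArg ((addPre S).map (qmap h 1 j).op) hz).trans (map_zero _)

/-- the Čech complex of a sheaf of functions is exact -/
theorem exactAt_cechSh_add {G : BigSite.Ab Ke S} (e : G.obj ≅ addPre S) (p : ℕ) :
    (cechSh h G).ExactAt p := by
  have hnat : ∀ (q : ℕ) (T : Over S) (x : G.obj.obj (op (qo h q T))),
      e.hom.app _ (cob h G.obj q T x) = cob h (addPre S) q T (e.hom.app _ x) := fun q T x =>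
    (datum h).δ_natF e.hom q T x
  have hinj : ∀ (U : (Over S)ᵒᵖ), Function.Injective (e.hom.app U) := fun U =>
    ConcreteCategory.injective_of_mono_of_preservesPullback (e.hom.app U)
  cases p with
  | zero =>
    rw [HomologicalComplex.exactAt_iff' _ 0 0 1 (by simp) (by simp), Groth.L10.EtDescent.exact_iff_locally]
    intro T z hz
    have hz' : cob h (addPre S) 0 T (e.hom.app _ z) = 0 := by
      rw [← hnat, show cob h G.obj 0 T z = 0 from (cechSh_d_app h G 0 T z).symm.trans hz, map_zero]
    obtain ⟨R, hR, hR'⟩ := add_cocycle_zero h T _ hz'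
    refine ⟨R, hR, fun T' a ha => ⟨0, (map_zero _).trans (hinj _ ?_)⟩⟩
    rw [map_zero]
    exact ((NatTrans.naturality_apply e.hom (qmap h 0 a).op z).trans (hR' a ha)).symm
  | succ k =>
    rw [HomologicalComplex.exactAt_iff' _ k (k + 1) (k + 2) (by simp) (by simp), Groth.L10.EtDescent.exact_iff_locally]
    intro T z hz
    have hz' : cob h (addPre S) (k + 1) T (e.hom.app _ z) = 0 := by
      rw [← hnat, show cob h G.obj (k + 1) T z = 0 from (cechSh_d_app h G (k + 1) T z).symm.trans hz, map_zero]
    obtain ⟨R, hR, hR'⟩ := add_cocycle_locally h k T _ hz'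
    refine ⟨R, hR, fun T' a ha => ?_⟩
    obtain ⟨y, hy⟩ := hR' a ha
    refine ⟨e.inv.app _ y, hinj _ ?_⟩
    refine (congrArg _ (cechSh_d_app h G k T' _)).trans ((hnat k T' _).trans ?_)
    refine (congrArg (cob h (addPre S) k T') (ConcreteCategory.congr_hom
      (e.inv_hom_id_app (op (qo h k T'))) y)).trans ?_
    exact hy.trans (NatTrans.naturality_apply e.hom (qmap h (k + 1) a).op z).symm

end Groth.L07.GmFppf
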