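import Groth.Agent.L07.GmFppf.AnySheaf
import Groth.Agent.L27.FppfCmp.Induction
import Groth.Agent.L24.Dominate.Nis

/-!
# Fppf resolutions of sheaves with locally exact finite Čech complexes are exact on the big étale sites
-/

universe u

open CategoryTheory CategoryTheory.Limits AlgebraicGeometry Opposite

set_option autoImplicit false
set_option backward.defeqAttrib.useBackward true
set_option backward.isDefEq.respectTransparency false
set_option backward.isDefEq.respectTransparency.types false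
set_option linter.style.haveILetI false
set_option maxHeartbeats 800000

namespace Groth.L07.GmFppf

open Groth.L27.FppfCmp
open Groth.L10.EtDescent (LExact cechSh)

local notation "Ke" => Scheme.etalePrecoverage
local notation "Kf" => Scheme.fppfPrecoverage

/-- fppf coverings are refined, étale locally on the base, by finite locally free ones -/
theorem hloc {X Y : Scheme.{u}} (f : X ⟶ Y) [Flat f] [LocallyOfFinitePresentation f] [Surjective f] (y : Y) :
    ∃ (S' : Scheme.{u}) (e : S' ⟶ Y) (_ : Etale e) (_ : y ∈ Set.range e.base)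
      (W : Scheme.{u}) (h : W ⟶ S') (_ : IsFinite h) (_ : Flat h) (_ : LocallyOfFinitePresentation h) (_ : Surjective h)
      (k : W ⟶ X), k ≫ f = h ≫ e := by
  obtain ⟨x, rfl⟩ := f.surjective y
  obtain ⟨U, V, u, v, y, r, hu, hy, -, ⟨h1, h2, h3, h4⟩, hr⟩ := Groth.L24.Dominate.exists_refinement_at f x
  exact ⟨U, u, hu, ⟨y, hy⟩, V, v, h1, h2, h3, h4, r, hr⟩

variable (P : ∀ (S : Scheme.{u}), BigSite.Ab Ke S → Prop)
  (hpull : ∀ {S S' : Scheme.{u}} (e : S' ⟶ S) (G : BigSite.Ab Ke S), P S G →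
    P S' ((BigSite.pullBig Ke e AddCommGrpCat.{u + 1}).obj G))
  (hcech : ∀ {S W : Scheme.{u}} (h : W ⟶ S) [IsFinite h] [Flat h] [LocallyOfFinitePresentation h] [Surjective h]
    (G : BigSite.Ab Ke S), P S G → ∀ p : ℕ, (cechSh h G).ExactAt p)

include hpull hcech in
/-- Fppf injective resolutions of sheaves with exact Čech complexes for finite locally free morphisms are exact, in
positive degrees, on the big étale site. -/
theorem exactAt_inclZ_le (q : ℕ) : ∀ (S : Scheme.{u}) (G0 : BigSite.Ab Kf S) (L : InjectiveResolution G0),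
    P S ((incl S).obj G0) → ∀ m : ℤ, 1 ≤ m → m ≤ q → (inclZ L).ExactAt m := by
  induction q with
  | zero => intro S G0 L hG m h1 h2; omega
  | succ q ih =>
    intro S G0 L hG m h1 h2
    by_cases h : m ≤ q
    · exact ih S G0 L hG m h1 h
    obtain rfl : m = (q : ℤ) + 1 := by push_cast at h2; omega
    refine (exactAt_iff_lexact (inclZ L) _).2 fun T z hz => ?_
    change ((inclZ L).d ((q : ℤ) + 1) ((q : ℤ) + 1 + 1)).hom.app (op T) z = 0 at hz
    obtain ⟨R0, hR0, hR0'⟩ : ∃ R0 ∈ QuotSh.J Kf S T, ∀ ⦃T' : Over S⦄ (a : T' ⟶ T), R0 a →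
        ∃ y, ((inclZ L).d (q : ℤ) ((q : ℤ) + 1)).hom.app (op T') y = ((inclZ L).X ((q : ℤ) + 1)).obj.map a.op z := by
      have hl : ∀ j : ℤ, j = (q : ℤ) + 1 → LExact (QuotSh.J Kf S) (preCx (inclZ L)) j := by
        rintro j rfl
        exact_mod_cast lexact_fppf L q
      obtain ⟨R0, hR0, hR0'⟩ := hl _ rfl T z hz
      refine ⟨R0, hR0, fun T' a ha => ?_⟩
      obtain ⟨y, hy⟩ := hR0' a ha
      have key : ∀ i : ℤ, i = (q : ℤ) → ∀ y : ((inclZ L).X i).obj.obj (op T'),
          ((inclZ L).d i ((q : ℤ) + 1)).hom.app (op T') y = ((inclZ L).X ((q : ℤ) + 1)).obj.map a.op z →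
          ∃ y, ((inclZ L).d (q : ℤ) ((q : ℤ) + 1)).hom.app (op T') y = ((inclZ L).X ((q : ℤ) + 1)).obj.map a.op z := by
        rintro i rfl y hy
        exact ⟨y, hy⟩
      exact key _ (by omega) y hy
    let Sv : Sieve T :=
      { arrows := fun T' a => ∃ y, ((inclZ L).d (q : ℤ) ((q : ℤ) + 1)).hom.app (op T') y =
          ((inclZ L).X ((q : ℤ) + 1)).obj.map a.op z
        downward_closed := by
          rintro T₁ T₂ a ⟨y, hy⟩ c
          refine ⟨((inclZ L).X (q : ℤ)).obj.map c.op y, ?_⟩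
          rw [NatTrans.naturality_apply ((inclZ L).d (q : ℤ) ((q : ℤ) + 1)).hom c.op y, hy, op_comp,
            Functor.map_comp, ConcreteCategory.comp_apply] }
    refine ⟨Sv, ?_, fun T' a ha => ?_⟩
    swap
    · obtain ⟨y, hy⟩ := ha
      have key : ∀ i : ℤ, i = (q : ℤ) → ∃ y : ((inclZ L).X i).obj.obj (op T'),
          ((inclZ L).d i ((q : ℤ) + 1)).hom.app (op T') y = ((inclZ L).X ((q : ℤ) + 1)).obj.map a.op z := by
        rintro i rfl
        exact ⟨y, hy⟩
      exact key _ (by omega)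
    refine Groth.L27.Fppf.mem_Jet.2 fun t => ?_
    obtain ⟨P', g, p, hg, ⟨_, _⟩, hp⟩ := Groth.L27.Fppf.mem_J.1 hR0 t
    let gl : P'.left ⟶ T.left := g.left
    haveI : Flat gl := ‹Flat g.left›
    haveI : LocallyOfFinitePresentation gl := ‹LocallyOfFinitePresentation g.left›
    let O : T.left.Opens := ⟨Set.range gl, gl.isOpenMap.isOpen_range⟩
    let e : O.toScheme ⟶ S := O.ι ≫ T.hom
    let f : (gl ⁻¹ᵁ O).toScheme ⟶ O.toScheme := gl ∣_ O
    haveI : Flat f := IsZariskiLocalAtTarget.restrict (P := @Flat) inferInstance O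
    haveI : LocallyOfFinitePresentation f :=
      IsZariskiLocalAtTarget.restrict (P := @LocallyOfFinitePresentation) inferInstance O
    haveI : Surjective f := ⟨fun v => by
      obtain ⟨w, hw⟩ : v.1 ∈ Set.range gl := v.2
      refine ⟨⟨w, show gl w ∈ O by rw [hw]; exact v.2⟩, ?_⟩
      apply Subtype.ext
      rw [morphismRestrict_base]
      exact hw⟩
    let L1 := pullResK L e
    let M := BigSite.pullBig Ke e AddCommGrpCat.{u + 1}
    let ψ := inclResIso L e
    let T0 : Over O.toScheme := Over.mk (𝟙 O.toScheme)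
    let jO : (Over.map e).obj T0 ⟶ T := Over.homMk O.ι (Category.id_comp e).symm
    let z1 : ((inclZ L1).X ((q : ℤ) + 1)).obj.obj (op T0) :=
      (ψ.hom.f ((q : ℤ) + 1)).app (op T0) (((inclZ L).X ((q : ℤ) + 1)).obj.map jO.op z)
    have hnat : ∀ (i j : ℤ) (U : Over O.toScheme) (x : ((inclZ L).X i).obj.obj (op ((Over.map e).obj U))),
        ((inclZ L1).d i j).hom.app (op U) ((ψ.hom.f i).app (op U) x) =
          (ψ.hom.f j).app (op U) (((inclZ L).d i j).hom.app (op ((Over.map e).obj U)) x) := fun i j U x =>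
      ConcreteCategory.congr_hom (congrArg (fun θ => θ.app (op U)) (ψ.hom.comm i j)) x
    have hz1 : ((inclZ L1).d ((q : ℤ) + 1) ((q : ℤ) + 1 + 1)).hom.app (op T0) z1 = 0 :=
      (hnat _ _ T0 _).trans ((congrArg _ ((NatTrans.naturality_apply ((inclZ L).d _ _).hom jO.op z).trans
        ((congrArg _ hz).trans (map_zero _)))).trans (map_zero _))
    have hres : ∃ w, ((inclZ L1).d (q : ℤ) ((q : ℤ) + 1)).hom.app (op (Over.mk f)) w =
        ((inclZ L1).X ((q : ℤ) + 1)).obj.map (Over.homMk f (Category.comp_id f) : Over.mk f ⟶ T0).op z1 := by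
      obtain ⟨y, hy⟩ := hR0' g hg
      let b : (Over.map e).obj (Over.mk f) ⟶ P' := Over.homMk (gl ⁻¹ᵁ O).ι (by
        show (gl ⁻¹ᵁ O).ι ≫ P'.hom = f ≫ O.ι ≫ T.hom
        rw [morphismRestrict_ι_assoc, Over.w g])
      refine ⟨(ψ.hom.f (q : ℤ)).app (op (Over.mk f)) (((inclZ L).X (q : ℤ)).obj.map b.op y), ?_⟩
      refine (hnat _ _ _ _).trans ?_
      refine (congrArg _ ((NatTrans.naturality_apply ((inclZ L).d (q : ℤ) ((q : ℤ) + 1)).hom b.op y).trans
        (congrArg _ hy))).trans ?_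
      refine Eq.trans ?_ (NatTrans.naturality_apply (ψ.hom.f ((q : ℤ) + 1))
        (Over.homMk f (Category.comp_id f) : Over.mk f ⟶ T0).op (((inclZ L).X ((q : ℤ) + 1)).obj.map jO.op z))
      refine congrArg ((ψ.hom.f ((q : ℤ) + 1)).app (op (Over.mk f))) ?_
      show ((inclZ L).X ((q : ℤ) + 1)).obj.map b.op (((inclZ L).X ((q : ℤ) + 1)).obj.map g.op z) =
        ((inclZ L).X ((q : ℤ) + 1)).obj.map ((Over.map e).map (Over.homMk f (Category.comp_id f) : Over.mk f ⟶ T0)).op
          (((inclZ L).X ((q : ℤ) + 1)).obj.map jO.op z)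
      rw [← ConcreteCategory.comp_apply, ← ConcreteCategory.comp_apply, ← Functor.map_comp, ← Functor.map_comp,
        ← op_comp, ← op_comp]
      refine congrArg (fun θ : (Over.map e).obj (Over.mk f) ⟶ T => ((inclZ L).X ((q : ℤ) + 1)).obj.map θ.op z)
        (Over.OverMorphism.ext ?_)
      exact (morphismRestrict_ι gl O).symm
    obtain ⟨J1, hJ1, hJ1'⟩ := exists_boundary_of_descent L1 q
      (fun m h1 h2 => ih _ _ L1 (hpull e _ hG) m h1 h2) f
      (fun R => exactAtObj_descent_of R f (fun e' h _ _ _ _ p => hcech h _ (hpull e' _ (hpull e _ hG)) p) (hloc f) _) z1 hz1 hres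
    obtain ⟨v, hv⟩ : ∃ v : O.toScheme, O.ι v = t := ⟨⟨t, ⟨p, hp⟩⟩, rfl⟩
    obtain ⟨Y, a, y0, hJa, hae, hy0⟩ := Groth.L27.Fppf.mem_Jet.1 hJ1 v
    obtain ⟨w, hw⟩ := hJ1' a hJa
    refine ⟨(Over.map e).obj Y, (Over.map e).map a ≫ jO, y0, ?_, ?_, ?_⟩
    · have hinv : ∀ (j : ℤ) (U : Over O.toScheme) (x : ((inclZ L).X j).obj.obj (op ((Over.map e).obj U))),
          (ψ.inv.f j).app (op U) ((ψ.hom.f j).app (op U) x) = x := fun j U x =>
        ConcreteCategory.congr_hom (congrArg (fun θ => θ.app (op U))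
          ((HomologicalComplex.comp_f _ _ _).symm.trans (congrArg (fun θ => HomologicalComplex.Hom.f θ j) ψ.hom_inv_id))) x
      refine ⟨(ψ.inv.f (q : ℤ)).app (op Y) w, ?_⟩
      refine (ConcreteCategory.congr_hom (congrArg (fun θ => θ.app (op Y)) (ψ.inv.comm (q : ℤ) ((q : ℤ) + 1))) w).trans ?_
      refine (congrArg ((ψ.inv.f ((q : ℤ) + 1)).app (op Y)) (hw.trans
        (NatTrans.naturality_apply (ψ.hom.f ((q : ℤ) + 1)) a.op (((inclZ L).X ((q : ℤ) + 1)).obj.map jO.op z)).symm)).trans ?_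
      refine (hinv _ _ _).trans ?_
      rw [op_comp, Functor.map_comp, ConcreteCategory.comp_apply]
      rfl
    · haveI : AlgebraicGeometry.Etale a.left := hae
      exact inferInstanceAs (AlgebraicGeometry.Etale (a.left ≫ O.ι))
    · exact (Scheme.Hom.comp_apply a.left O.ι y0).trans ((congrArg O.ι hy0).trans hv)

end Groth.L07.GmFppf
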