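import Mathlib.GroupTheory.QuotientGroup.Basic
import Groth.Agent.L00.RDerLES
import Groth.Agent.L27.Hom.ExtAdj
import Groth.Agent.L28.Leray.Trunc
import Mathlib.Algebra.Homology.DerivedCategory.Ext.EnoughInjectives

/-!
# Shifting the degree along an endomorphism of an acyclic object with kernel invisible to the right adjoint
-/

universe w w' v v' u u'

open CategoryTheory CategoryTheory.Limits CategoryTheory.Abelian

set_option autoImplicit false
set_option backward.isDefEq.respectTransparency false
set_option backward.defeqAttrib.useBackward true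
set_option linter.style.haveILetI false

noncomputable section

namespace Groth.L07.MuShift

open Groth.L27.ExtAdj

/-- isomorphic quotients of two surjections with equal kernels -/
theorem nonempty_addEquiv_of_ker {G H H' : Type*} [AddCommGroup G] [AddCommGroup H] [AddCommGroup H']
    (α : G →+ H) (β : G →+ H') (hα : Function.Surjective α) (hβ : Function.Surjective β)
    (h : ∀ x, α x = 0 ↔ β x = 0) : Nonempty (H' ≃+ H) :=
  ⟨((QuotientAddGroup.quotientKerEquivOfSurjective β hβ).symm.trans
    (QuotientAddGroup.quotientAddEquivOfEq (AddSubgroup.ext fun x => (h x).symm :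
      AddMonoidHom.ker β = AddMonoidHom.ker α))).trans (QuotientAddGroup.quotientKerEquivOfSurjective α hα)⟩

variable {C : Type u} [Category.{v} C] [Abelian C] {D : Type u'} [Category.{v'} D] [Abelian D]
  [HasExt.{w} C] [HasExt.{w'} D] [EnoughInjectives D] {L : C ⥤ D} {R : D ⥤ C} [L.Additive] [R.Additive]
  [PreservesFiniteLimits L] [PreservesFiniteColimits L] [PreservesFiniteLimits R] (adj : L ⊣ R)

omit [EnoughInjectives D] [R.Additive] [PreservesFiniteLimits R] in
theorem phi_add (A : C) (F : D) (n : ℕ) (x y : Ext.{w} A (R.obj F) n) :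
    phi.{w, w'} adj A F n (x + y) = phi adj A F n x + phi adj A F n y := by
  rw [phi, phi, phi, Ext.mapExactFunctor_add, Ext.add_comp]

include adj in
/-- cohomology of a kernel, shifted by one -/
theorem nonempty_shift (A : C) {G : D} (g : G ⟶ G) [Epi g]
    (hG : ∀ q : ℕ, 0 < q → IsZero ((R.rightDerived q).obj G)) [Mono (R.map g)] (m : ℕ) :
    Nonempty (Ext.{w'} (L.obj A) (kernel g) (m + 1) ≃+ Ext.{w} A (cokernel (R.map g)) m) := by
  let : HasDerivedCategory D := HasDerivedCategory.standard D
  let K := kernel g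
  let k : K ⟶ G := kernel.ι g
  let S : ShortComplex D := ShortComplex.mk k g (kernel.condition g)
  have hS : S.ShortExact := { exact := ShortComplex.exact_of_f_is_kernel _ (kernelIsKernel g) }
  have hK2 : ∀ r : ℕ, 1 ≤ r → IsZero ((R.rightDerived (r + 1)).obj K) := fun r hr => by
    haveI : Epi ((R.rightDerived r).map S.g) := ⟨fun _ _ _ => (hG r hr).eq_of_src _ _⟩
    exact Groth.L00.RDerLES.isZero_X₁ R hS r (hG (r + 1) (by omega))
  let I := Injective.under K
  let ι : K ⟶ I := Injective.ι K
  let T : ShortComplex D := ShortComplex.mk ι (cokernel.π ι) (cokernel.condition ι)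
  have hT : T.ShortExact := { exact := ShortComplex.exact_of_g_is_cokernel _ (cokernelIsCokernel _) }
  let Q := T.X₃
  let π : I ⟶ Q := T.g
  have hI : ∀ q : ℕ, 0 < q → IsZero ((R.rightDerived q).obj I) := fun q hq => by
    obtain ⟨q, rfl⟩ := Nat.exists_eq_succ_of_ne_zero hq.ne'
    exact R.isZero_rightDerived_obj_injective_succ q I
  have hQ : ∀ q : ℕ, 0 < q → IsZero ((R.rightDerived q).obj Q) := fun q hq => by
    haveI := Groth.L00.RDerLES.epi_map_g R hT q (hK2 q hq)
    exact IsZero.of_epi ((R.rightDerived q).map T.g) (hI q hq)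
  let η : G ⟶ I := Injective.factorThru ι k
  have hη : k ≫ η = ι := Injective.comp_factorThru ι k
  let ζ : G ⟶ Q := hS.exact.desc (η ≫ π) (by
    show k ≫ η ≫ π = 0
    rw [← Category.assoc, hη]; exact T.zero)
  have hζ : g ≫ ζ = η ≫ π := hS.exact.g_desc _ _
  let a : G ⟶ I ⊞ G := biprod.lift η g
  let b : I ⊞ G ⟶ Q := biprod.desc π (-ζ)
  let U : ShortComplex D := ShortComplex.mk a b (by simp [a, b, hζ])
  have hU : U.ShortExact :=
    { exact := by
        rw [ShortComplex.exact_iff_exact_up_to_refinements]
        intro Z x hx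
        change x ≫ b = 0 at hx
        obtain ⟨Z₁, e₁, _, n, hn⟩ := surjective_up_to_refinements_of_epi g (x ≫ biprod.snd)
        have h1 : (e₁ ≫ x ≫ biprod.fst - n ≫ η) ≫ π = 0 := by
          have e := congrArg (e₁ ≫ ·) hx
          simp only [b, biprod.desc_eq, Preadditive.comp_add, Preadditive.comp_neg, comp_zero] at e
          rw [Preadditive.sub_comp, Category.assoc, Category.assoc, Category.assoc, ← hζ]
          rw [← reassoc_of% hn, sub_eq_add_neg]
          exact e
        obtain ⟨Z₂, e₂, _, y, hy⟩ := (ShortComplex.exact_iff_exact_up_to_refinements T).1 hT.exact _ h1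
        refine ⟨Z₂, e₂ ≫ e₁, inferInstance, e₂ ≫ n + y ≫ k, ?_⟩
        refine biprod.hom_ext _ _ ?_ ?_
        · change e₂ ≫ _ = y ≫ ι at hy
          simp only [U, a, Category.assoc, biprod.lift_fst, Preadditive.add_comp, hη]
          rw [← hy, Preadditive.comp_sub, add_sub_cancel]
        · simp only [U, a, Category.assoc, biprod.lift_snd, Preadditive.add_comp]
          rw [show k ≫ g = 0 from kernel.condition g, comp_zero, add_zero, hn]
      mono_f := by
        refine Preadditive.mono_of_cancel_zero _ fun {Z} z hz => ?_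
        change z ≫ a = 0 at hz
        have h2 : z ≫ g = 0 := by
          have e := congrArg (· ≫ biprod.snd) hz
          simpa [a] using e
        have h3 : z ≫ η = 0 := by
          have e := congrArg (· ≫ biprod.fst) hz
          simpa [a] using e
        rw [← kernel.lift_ι g z h2] at h3 ⊢
        rw [Category.assoc, hη] at h3
        rw [zero_of_comp_mono ι h3]
        exact zero_comp
      epi_g := by
        haveI : Epi π := inferInstanceAs (Epi (cokernel.π ι))
        exact @epi_of_epi_fac _ _ _ _ _ biprod.inl b π inferInstance (biprod.inl_desc _ _) }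
  haveI hbR : Epi (R.map b) := by
    haveI := Groth.L00.RDerLES.epi_map_g R hU 0 (hG 1 one_pos)
    show Epi (R.map U.g)
    rw [← NatIso.naturality_1 R.rightDerivedZeroIsoSelf U.g]
    infer_instance
  haveI := hU.mono_f
  have hUR : (U.map R).ShortExact :=
    { exact := hU.exact.map_of_mono_of_preservesKernel R inferInstance inferInstance
      mono_f := inferInstanceAs (Mono (R.map U.f))
      epi_g := hbR }
  haveI : Epi (U.map R).g := hbR
  let c : R.obj G ⟶ cokernel (R.map g) := cokernel.π _
  let d : R.obj Q ⟶ cokernel (R.map g) := hUR.exact.desc (-(R.map biprod.snd ≫ c)) (by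
    show R.map a ≫ (-(R.map biprod.snd ≫ c)) = 0
    rw [Preadditive.comp_neg, ← R.map_comp_assoc, biprod.lift_snd, cokernel.condition, neg_zero])
  have hd : R.map b ≫ d = -(R.map biprod.snd ≫ c) := hUR.exact.g_desc _ _
  have hπd : R.map π ≫ d = 0 := by
    have e : biprod.inl ≫ b = π := biprod.inl_desc _ _
    rw [← e, R.map_comp, Category.assoc, hd, Preadditive.comp_neg, ← R.map_comp_assoc, biprod.inl_snd, R.map_zero,
      zero_comp, neg_zero]
  have hζd : R.map ζ ≫ d = c := by
    have e : biprod.inr ≫ b = -ζ := biprod.inr_desc _ _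
    have e' := congrArg (fun z => R.map z ≫ d) e
    simp only [R.map_comp, R.map_neg, Category.assoc, hd, Preadditive.comp_neg, Preadditive.neg_comp] at e'
    rw [← R.map_comp_assoc, biprod.inr_snd, R.map_id, Category.id_comp, neg_inj] at e'
    exact e'.symm
  have hex : (ShortComplex.mk (R.map π) d hπd).Exact := by
    rw [ShortComplex.exact_iff_exact_up_to_refinements]
    intro Z x hx
    change x ≫ d = 0 at hx
    obtain ⟨Z₁, e₁, _, n, hn⟩ := surjective_up_to_refinements_of_epi (R.map b) x
    have h1 : (n ≫ R.map biprod.snd) ≫ c = 0 := by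
      have e := congrArg (· ≫ d) hn
      simp only [Category.assoc, hd, hx, comp_zero, Preadditive.comp_neg] at e
      rw [Category.assoc]
      exact neg_eq_zero.1 e.symm
    obtain ⟨Z₂, e₂, _, v, hv⟩ := (ShortComplex.exact_iff_exact_up_to_refinements
      (ShortComplex.mk (R.map g) c (cokernel.condition _))).1
        (ShortComplex.exact_of_g_is_cokernel _ (cokernelIsCokernel _)) _ h1
    change e₂ ≫ n ≫ R.map biprod.snd = v ≫ R.map g at hv
    refine ⟨Z₂, e₂ ≫ e₁, inferInstance, e₂ ≫ n ≫ R.map biprod.fst - v ≫ R.map η, ?_⟩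
    have hb : b = biprod.fst ≫ π + biprod.snd ≫ (-ζ) := biprod.desc_eq
    show (e₂ ≫ e₁) ≫ x = _ ≫ R.map π
    rw [Category.assoc, hn, hb, R.map_add, R.map_comp, R.map_comp, R.map_neg, Preadditive.sub_comp]
    simp only [Category.assoc, Preadditive.comp_add, Preadditive.comp_neg]
    rw [← R.map_comp η, ← hζ, R.map_comp g ζ, ← reassoc_of% hv, sub_eq_add_neg]
  haveI hmI : Mono (R.map π) := by
    haveI := hT.mono_f
    have hRT := hT.exact.map_of_mono_of_preservesKernel R inferInstance inferInstance
    refine hRT.mono_g ?_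
    have hSR := hS.exact.map_of_mono_of_preservesKernel R (hS.mono_f) inferInstance
    haveI := hS.mono_f
    haveI : Mono (R.map S.f) := inferInstance
    have : R.map k = 0 := zero_of_comp_mono (R.map g) (by rw [← R.map_comp, kernel.condition, R.map_zero])
    exact (IsZero.of_mono_eq_zero (R.map S.f) this).eq_of_src _ _
  have hE : (ShortComplex.mk (R.map π) d hπd).ShortExact :=
    { exact := hex
      mono_f := hmI
      epi_g := by
        haveI : Epi c := inferInstanceAs (Epi (cokernel.π _))
        exact @epi_of_epi_fac _ _ _ _ _ (R.map ζ) d c inferInstance hζd }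
  haveI : Injective (R.obj I) := Injective.injective_of_adjoint adj I
  haveI : Injective T.X₂ := inferInstanceAs (Injective I)
  have hbQ := bijective_phi.{w, w'} adj (A := A) m Q hQ
  have hbI := bijective_phi.{w, w'} adj (A := A) m I hI
  let α : Ext.{w} A (R.obj Q) m →+ Ext.{w} A (cokernel (R.map g)) m :=
    AddMonoidHom.mk' (fun x => x.comp (Ext.mk₀ d) (add_zero m)) fun x y => Ext.add_comp _ _ _ _
  let β : Ext.{w} A (R.obj Q) m →+ Ext.{w'} (L.obj A) K (m + 1) :=
    AddMonoidHom.mk' (fun x => (phi.{w, w'} adj A Q m x).comp hT.extClass rfl) fun x y => by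
      rw [phi_add, Ext.add_comp]
  have hα : Function.Surjective α := fun z => by
    exact Ext.covariant_sequence_exact₃ A hE z rfl (Ext.eq_zero_of_injective _)
  have hβ : Function.Surjective β := fun z => by
    obtain ⟨y, rfl⟩ := Ext.covariant_sequence_exact₁ (L.obj A) hT z (Ext.eq_zero_of_injective _) rfl
    obtain ⟨x, rfl⟩ := hbQ.2 y
    exact ⟨x, rfl⟩
  refine nonempty_addEquiv_of_ker α β hα hβ fun x => ⟨fun hx => ?_, fun hx => ?_⟩
  · obtain ⟨t, rfl⟩ := Ext.covariant_sequence_exact₂ A hE x hx
    show (phi adj A Q m (t.comp (Ext.mk₀ (R.map T.g)) (add_zero m))).comp hT.extClass rfl = 0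
    rw [phi_comp_map, Ext.comp_assoc_of_second_deg_zero]
    exact (congrArg (fun r => (phi adj A _ m t).comp r rfl) hT.comp_extClass).trans (Ext.comp_zero _ _ _ _ _)
  · obtain ⟨y, hy⟩ := Ext.covariant_sequence_exact₃ (L.obj A) hT (phi adj A Q m x) rfl hx
    obtain ⟨t, rfl⟩ := hbI.2 y
    rw [← phi_comp_map adj T.g m t] at hy
    rw [← hbQ.1 hy]
    show (t.comp (Ext.mk₀ (R.map π)) (add_zero m)).comp (Ext.mk₀ d) (add_zero m) = 0
    rw [Ext.comp_assoc_of_third_deg_zero, Ext.mk₀_comp_mk₀, hπd, Ext.mk₀_zero, Ext.comp_zero]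

end Groth.L07.MuShift
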