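import Groth.Agent.L07.GmFppf.Field
import Groth.Agent.L07.GmFppf.MuShift
import Groth.Agent.L23.SourceReduced
import Groth.Prelude.Def_Frob
import Mathlib.RingTheory.AdjoinRoot
import Mathlib.Algebra.CharP.Lemmas

/-!
# Roots of unity of `p`-power order in characteristic `p`: fppf against étale
-/

universe u

open CategoryTheory CategoryTheory.Limits CategoryTheory.Abelian AlgebraicGeometry Opposite Polynomial

set_option autoImplicit false
set_option backward.isDefEq.respectTransparency false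
set_option backward.isDefEq.respectTransparency.types false
set_option linter.style.haveILetI false
set_option maxHeartbeats 800000

noncomputable section

namespace Groth.L07.GmFppf

variable {X : Scheme.{u}}

/-- sums of maps of sheaves, on sections -/
theorem add_hom_app {C : Type*} [Category C] {J : GrothendieckTopology C} {G : Sheaf J AddCommGrpCat.{u + 1}}
    (f g : G ⟶ G) (T : Cᵒᵖ) (x : G.obj.obj T) : (f + g).hom.app T x = f.hom.app T x + g.hom.app T x := rfl

/-- multiples of a map of sheaves, on sections -/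
theorem nsmul_id_app {C : Type*} [Category C] {J : GrothendieckTopology C} (n : ℕ)
    (G : Sheaf J AddCommGrpCat.{u + 1}) (T : Cᵒᵖ) (x : G.obj.obj T) : (n • 𝟙 G).hom.app T x = n • x := by
  induction n with
  | zero => simp
  | succ n ih => rw [succ_nsmul, succ_nsmul, add_hom_app (n • 𝟙 G) (𝟙 G) T x, ih]; rfl

/-- powers of units are locally surjective for the flat topology -/
theorem epi_nsmul_GmF (X : Scheme.{u}) (n : ℕ) (hn : 0 < n) : Epi (n • 𝟙 (EtDl.GmF X)) := by
  rw [← Sheaf.isLocallySurjective_iff_epi']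
  refine ⟨fun {T} x => ?_⟩
  let T' : Over X := T
  refine Groth.L27.Fppf.mem_J.2 fun t => ?_
  obtain ⟨U, hU, htU, -⟩ := exists_isAffineOpen_mem_and_subset (X := T'.left) (x := t) (U := ⊤) trivial
  obtain ⟨a, ha⟩ : ∃ a, hU.fromSpec a = t := by
    have : t ∈ Set.range hU.fromSpec := by rw [hU.range_fromSpec]; exact htU
    exact this
  let A : Type u := Γ(T'.left, U)
  let v : Aˣ := Units.map (T'.left.presheaf.map (homOfLE (le_top : U ≤ ⊤)).op).hom.toMonoidHom (GmPts.unitOfSect x)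
  rcases subsingleton_or_nontrivial A with hA | hA
  · exact (IsEmpty.false (α := PrimeSpectrum A) a).elim
  let f : Polynomial A := Polynomial.X ^ n - C (v : A)
  have hf : f.Monic := monic_X_pow_sub_C _ hn.ne'
  haveI : Module.Free A (AdjoinRoot f) := hf.free_adjoinRoot
  haveI : Module.Finite A (AdjoinRoot f) := hf.finite_adjoinRoot
  haveI : Nontrivial (AdjoinRoot f) := nontrivial_of_ne _ 0 ((AdjoinRoot.powerBasis' hf).basis.ne_zero
    ⟨0, by rw [AdjoinRoot.powerBasis'_dim, natDegree_X_pow_sub_C]; exact hn⟩)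
  haveI : Module.FaithfullyFlat A (AdjoinRoot f) := inferInstance
  let σ : CommRingCat.of A ⟶ CommRingCat.of (AdjoinRoot f) := CommRingCat.ofHom (algebraMap A (AdjoinRoot f))
  haveI : Flat (Spec.map σ) :=
    (HasRingHomProperty.Spec_iff (P := @Flat)).2 (RingHom.flat_algebraMap_iff.2 inferInstance)
  haveI : LocallyOfFinitePresentation (Spec.map σ) :=
    (HasRingHomProperty.Spec_iff (P := @LocallyOfFinitePresentation)).2
      (RingHom.finitePresentation_algebraMap.2 inferInstance)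
  obtain ⟨z, hz⟩ := PrimeSpectrum.comap_surjective_of_faithfullyFlat (A := A) (B := AdjoinRoot f) a
  let c : Spec (CommRingCat.of (AdjoinRoot f)) ⟶ T'.left := Spec.map σ ≫ hU.fromSpec
  let g : Over.mk (c ≫ T'.hom) ⟶ T' := Over.homMk c rfl
  have hU' : hU.fromSpec.appTop = T'.left.presheaf.map (homOfLE (le_top : U ≤ ⊤)).op ≫
      (Scheme.ΓSpecIso Γ(T'.left, U)).inv := by
    show hU.fromSpec.app ⊤ = _
    rw [hU.fromSpec_app_of_le ⊤ le_top, Subsingleton.elim (homOfLE le_top : (⊤ : (Spec Γ(T'.left, U)).Opens) ⟶ ⊤) (𝟙 _)]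
    exact congrArg (T'.left.presheaf.map (homOfLE (le_top : U ≤ ⊤)).op ≫ ·)
      ((congrArg ((Scheme.ΓSpecIso Γ(T'.left, U)).inv ≫ ·)
        ((Spec Γ(T'.left, U)).presheaf.map_id (op ⊤))).trans (Category.comp_id _))
  have hc : c.appTop ≫ (Scheme.ΓSpecIso _).hom =
      T'.left.presheaf.map (homOfLE (le_top : U ≤ ⊤)).op ≫ σ := by
    simp only [c, Scheme.Hom.comp_appTop, hU', Category.assoc, Scheme.ΓSpecIso_naturality]
    exact congrArg (T'.left.presheaf.map (homOfLE (le_top : U ≤ ⊤)).op ≫ ·) (Iso.inv_hom_id_assoc _ _)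
  have hpow : (AdjoinRoot.root f) ^ n = σ (v : A) := by
    have h := AdjoinRoot.eval₂_root f
    simp [f, sub_eq_zero] at h
    exact h
  have hu : IsUnit (AdjoinRoot.root f) := (isUnit_pow_iff hn.ne').1 (hpow ▸ v.isUnit.map σ.hom)
  let e := (Scheme.ΓSpecIso (CommRingCat.of (AdjoinRoot f)))
  let y : (EtDl.GmF X).obj.obj (op (Over.mk (c ≫ T'.hom))) :=
    GmPts.sectOfUnit (Units.map e.inv.hom.toMonoidHom hu.unit)
  refine ⟨Over.mk (c ≫ T'.hom), g, z, ⟨y, ?_⟩, ⟨?_, ?_⟩, ?_⟩
  · refine (nsmul_id_app n _ _ y).trans ?_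
    refine ULift.ext _ _ ?_
    show n • Additive.ofMul (Units.map e.inv.hom.toMonoidHom hu.unit) =
      Additive.ofMul (Units.map c.appTop.hom.toMonoidHom (GmPts.unitOfSect x))
    rw [← ofMul_pow, ← map_pow]
    refine congrArg Additive.ofMul (Units.ext ?_)
    show e.inv ((hu.unit ^ n : (AdjoinRoot f)ˣ) : AdjoinRoot f) = c.appTop _
    rw [Units.val_pow_eq_pow_val, IsUnit.unit_spec, hpow]
    refine Eq.trans ?_ (e.hom_inv_id_apply _)
    refine congrArg e.inv ?_
    exact (ConcreteCategory.congr_hom hc _).symm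
  · exact inferInstanceAs (Flat (Spec.map σ ≫ hU.fromSpec))
  · exact inferInstanceAs (LocallyOfFinitePresentation (Spec.map σ ≫ hU.fromSpec))
  · exact (Scheme.Hom.comp_apply (Spec.map σ) hU.fromSpec z).trans ((congrArg hU.fromSpec hz).trans ha)

/-- no `p`-torsion units on reduced schemes of characteristic `p` -/
theorem mono_aPush_nsmul (X : Scheme.{u}) (p : ℕ) [Fact p.Prime] [FrobSch.IsCharP X p] [IsReduced X]
    [EtFppf.ACont X] : Mono ((EtFppf.aPush X).map (p • 𝟙 (EtDl.GmF X))) := by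
  haveI : ∀ (V : X.Etaleᵒᵖ), Mono (((EtFppf.aPush X).map (p • 𝟙 (EtDl.GmF X))).hom.app V) := fun V => by
    rw [AddCommGrpCat.mono_iff_injective, injective_iff_map_eq_zero]
    intro x hx
    change (p • 𝟙 (EtDl.GmF X)).hom.app (op ((EtFppf.a X).obj (unop V))) x = 0 at hx
    rw [nsmul_id_app] at hx
    let Y := ((EtFppf.a X).obj (unop V)).left
    haveI : AlgebraicGeometry.Etale ((EtFppf.a X).obj (unop V)).hom := (unop V).prop
    haveI : IsReduced Y := Groth.L23.isReduced_of_etale ((EtFppf.a X).obj (unop V)).hom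
    haveI := FrobSch.IsCharP.of_hom ((EtFppf.a X).obj (unop V)).hom p
    have hp : (p : Γ(Y, ⊤)) = 0 := FrobSch.IsCharP.natCast_eq_zero (X := Y)
    have h1 : ((GmPts.unitOfSect x : (Γ(Y, ⊤))ˣ) : Γ(Y, ⊤)) ^ p = 1 := by
      have e := congrArg (fun w => ((GmPts.unitOfSect w : (Γ(Y, ⊤))ˣ) : Γ(Y, ⊤))) hx
      change (((GmPts.unitOfSect x : (Γ(Y, ⊤))ˣ) ^ p : (Γ(Y, ⊤))ˣ) : Γ(Y, ⊤)) = 1 at e
      rwa [Units.val_pow_eq_pow_val] at e
    refine ULift.ext _ _ (Additive.toMul.injective (Units.ext ?_))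
    show ((GmPts.unitOfSect x : (Γ(Y, ⊤))ˣ) : Γ(Y, ⊤)) = 1
    rcases subsingleton_or_nontrivial Γ(Y, ⊤) with h | h
    · exact Subsingleton.elim _ _
    haveI : CharP Γ(Y, ⊤) p := (CharP.charP_iff_prime_eq_zero Fact.out).2 hp
    refine sub_eq_zero.1 (IsReduced.eq_zero _ ⟨p, ?_⟩)
    rw [sub_pow_char, h1, one_pow, sub_self]
  haveI : Mono ((EtFppf.aPush X).map (p • 𝟙 (EtDl.GmF X))).hom := NatTrans.mono_of_mono_app _
  exact (sheafToPresheaf _ _).mono_of_mono_map (this : Mono ((sheafToPresheaf _ _).map ((EtFppf.aPush X).map (p • 𝟙 (EtDl.GmF X)))))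

/-- fppf cohomology of `μ_p` in characteristic `p` -/
theorem nonempty_HF_mu_equiv (X : Scheme.{u}) (p : ℕ) [Fact p.Prime] [FrobSch.IsCharP X p] [IsReduced X]
    [EtFppf.ACont X] (m : ℕ) :
    Nonempty (EtFppf.HF X (kernel (p • 𝟙 (EtDl.GmF X))) (m + 1) ≃+
      EtCoh.H X (cokernel (EtCoh.powMap X p)) m) := by
  haveI := Groth.L27.FppfCmp.preservesFiniteLimits_aPull X
  haveI : PreservesFiniteColimits (EtFppf.aPull X) :=
    haveI := (EtFppf.aAdj X).leftAdjoint_preservesColimits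
    inferInstance
  haveI : (EtFppf.aPull X).Additive := (EtFppf.aAdj X).left_adjoint_additive
  haveI : PreservesFiniteLimits (EtFppf.aPush X) :=
    haveI := (EtFppf.aAdj X).rightAdjoint_preservesLimits
    inferInstance
  haveI := epi_nsmul_GmF X p (Fact.out : p.Prime).pos
  haveI := mono_aPush_nsmul X p
  obtain ⟨e₁⟩ := Groth.L07.MuShift.nonempty_shift.{u + 1, u + 1} (EtFppf.aAdj X) (EtCoh.const X ℤ)
    (p • 𝟙 (EtDl.GmF X)) (fun q hq => isZero_RaPush_units X q hq) m
  let K := kernel (p • 𝟙 (EtDl.GmF X))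
  let Z := AddCommGrpCat.of (ULift.{u + 1} ℤ)
  let c := (Groth.L27.FppfCmp.constAIso X).app Z
  let e₂ : EtFppf.HF X K (m + 1) ≃+ Ext.{u + 1} ((EtFppf.aPull X).obj (EtCoh.const X ℤ)) K (m + 1) :=
    { toFun := fun x => (Ext.mk₀ c.hom).comp x (zero_add _)
      invFun := fun x => (Ext.mk₀ c.inv).comp x (zero_add _)
      left_inv := fun x => by simp
      right_inv := fun x => by simp
      map_add' := fun x y => Ext.comp_add _ _ _ _ }
  let i : cokernel ((EtFppf.aPush X).map (p • 𝟙 (EtDl.GmF X))) ≅ cokernel (EtCoh.powMap X p) :=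
    cokernel.mapIso _ _ (aPushGmIso X) (aPushGmIso X) (by
      rw [Functor.map_nsmul, CategoryTheory.Functor.map_id, EtCoh.powMap, Preadditive.nsmul_comp,
        Preadditive.comp_nsmul, Category.id_comp, Category.comp_id])
  let e₃ : Ext.{u + 1} (EtCoh.const X ℤ) (cokernel ((EtFppf.aPush X).map (p • 𝟙 (EtDl.GmF X)))) m ≃+
      EtCoh.H X (cokernel (EtCoh.powMap X p)) m :=
    { toFun := fun x => Ext.comp x (Ext.mk₀ i.hom) (add_zero m)
      invFun := fun x => Ext.comp x (Ext.mk₀ i.inv) (add_zero m)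
      left_inv := fun x => by simp
      right_inv := fun x => by simp
      map_add' := fun x y => Ext.add_comp _ _ _ _ }
  exact ⟨e₂.trans (e₁.trans e₃)⟩

end Groth.L07.GmFppf
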