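import Groth.Agent.L07.GmFppf.Units
import Groth.Agent.S15870
import Mathlib.RingTheory.LocalRing.ResidueField.Ideal
import Mathlib.RingTheory.Etale.Basic
import Mathlib.RingTheory.MvPolynomial.Basic
import Mathlib.FieldTheory.IsAlgClosed.Basic
import Mathlib.RingTheory.RingHom.Etale

/-!
# Multiplicative Amitsur cocycles become coboundaries étale locally
-/

universe u

open TensorProduct AlgebraicGeometry CategoryTheory

set_option autoImplicit false
set_option backward.isDefEq.respectTransparency false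
set_option backward.isDefEq.respectTransparency.types false
set_option linter.style.haveILetI false

noncomputable section

namespace Groth.L07.GmFppf

variable {A B : Type u} [CommRing A] [CommRing B] [Algebra A B]

/-- a dual basis -/
theorem exists_dualBasis (P : Type u) [AddCommGroup P] [Module A P] [Module.Finite A P] [Module.Projective A P] :
    ∃ (n : ℕ) (g : Fin n → P) (φ : Fin n → (P →ₗ[A] A)), ∀ x, ∑ i, φ i x • g i = x := by
  obtain ⟨n, f, hf⟩ := Module.Finite.exists_fin' A P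
  obtain ⟨s, hs⟩ := Module.projective_lifting_property f LinearMap.id hf
  refine ⟨n, fun i => f (Pi.single i 1), fun i => (LinearMap.proj i).comp s, fun x => ?_⟩
  refine Eq.trans ?_ (LinearMap.congr_fun hs x)
  rw [LinearMap.comp_apply]
  conv_rhs => rw [pi_eq_sum_univ' (s x), map_sum]
  refine Finset.sum_congr rfl fun i _ => ?_
  rw [map_smul]
  rfl

section Coord

variable {p : ℕ} (φ : TT A B p →ₗ[A] A) {C : Type u} [CommRing C] [Algebra A C]

/-- a coordinate -/
def coord : C ⊗[A] TT A B p →ₗ[A] C :=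
  (TensorProduct.rid A C).toLinearMap.comp (LinearMap.lTensor C φ)

theorem coord_tmul (c : C) (t : TT A B p) : coord φ (c ⊗ₜ[A] t) = φ t • c := by simp [coord]

theorem chg_coord {C' : Type u} [CommRing C'] [Algebra A C'] (h : C →ₐ[A] C') (x : C ⊗[A] TT A B p) :
    coord φ (chg h p x) = h (coord φ x) := by
  induction x using TensorProduct.induction_on with
  | zero => simp
  | tmul c t => rw [show chg (B := B) h p (c ⊗ₜ[A] t) = h c ⊗ₜ[A] t by simp [chg], coord_tmul, coord_tmul, map_smul]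
  | add x y hx hy => simp only [map_add, hx, hy]

theorem sum_coord {n : ℕ} {g : Fin n → TT A B p} {φ : Fin n → (TT A B p →ₗ[A] A)}
    (h : ∀ x, ∑ i, φ i x • g i = x) (x : C ⊗[A] TT A B p) : ∑ i, coord (φ i) x ⊗ₜ[A] g i = x := by
  induction x using TensorProduct.induction_on with
  | zero => simp
  | tmul c t =>
    simp only [coord_tmul, TensorProduct.smul_tmul]
    rw [← TensorProduct.tmul_sum, h]
  | add x y hx hy => simp only [map_add, TensorProduct.add_tmul, Finset.sum_add_distrib, hx, hy]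

theorem eq_of_coord {n : ℕ} {g : Fin n → TT A B p} {φ : Fin n → (TT A B p →ₗ[A] A)}
    (h : ∀ x, ∑ i, φ i x • g i = x) {x y : C ⊗[A] TT A B p} (e : ∀ i, coord (φ i) x = coord (φ i) y) : x = y := by
  rw [← sum_coord h x, ← sum_coord h y]
  simp only [e]

end Coord

theorem chgU_ofId {C C' : Type u} [CommRing C] [Algebra A C] [CommRing C'] [Algebra A C'] (h : C →ₐ[A] C') (p : ℕ)
    (z : Additive (A ⊗[A] TT A B p)ˣ) : chgU h p (chgU (Algebra.ofId A C) p z) = chgU (Algebra.ofId A C') p z := by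
  refine Additive.toMul.injective (Units.ext ?_)
  show chg h p (chg (Algebra.ofId A C) p _) = chg (Algebra.ofId A C') p _
  rw [chg_chg, Subsingleton.elim (h.comp (Algebra.ofId A C)) (Algebra.ofId A C')]

/-- a smooth surjective algebra over which the cocycle is a coboundary -/
theorem exists_solver [Module.Finite A B] [Module.Projective A B] [Module.FaithfullyFlat A B] (p : ℕ)
    (z : Additive (A ⊗[A] TT A B (p + 1))ˣ) (hz : δu A (p + 1) z = 0) :
    ∃ (Y : Type u) (_ : CommRing Y) (_ : Algebra A Y), Algebra.Smooth A Y ∧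
      Function.Surjective (PrimeSpectrum.comap (algebraMap A Y)) ∧
      ∃ b : Additive (Y ⊗[A] TT A B p)ˣ, δu Y p b = chgU (Algebra.ofId A Y) (p + 1) z := by
  classical
  have hzC : ∀ (C : Type u) [CommRing C] [Algebra A C],
      δu C (p + 1) (chgU (Algebra.ofId A C) (p + 1) z) = 0 := fun C _ _ => by
    rw [← chgU_δu, hz, map_zero]
  obtain ⟨n, g, φ, hφ⟩ := exists_dualBasis (A := A) (TT A B p)
  obtain ⟨n', g', φ', hφ'⟩ := exists_dualBasis (A := A) (TT A B (p + 1))
  let R0 := MvPolynomial (Fin n ⊕ Fin n) A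
  let X0 : R0 ⊗[A] TT A B p := ∑ i, MvPolynomial.X (Sum.inl i) ⊗ₜ[A] g i
  let Y0 : R0 ⊗[A] TT A B p := ∑ i, MvPolynomial.X (Sum.inr i) ⊗ₜ[A] g i
  let r1 : Fin n ⊕ (Fin n ⊕ Fin n) → R0 := Sum.elim (fun i => coord (φ i) (X0 * Y0 - 1))
    (Sum.elim (fun i => MvPolynomial.X (Sum.inl i) - coord (φ i) X0)
      (fun i => MvPolynomial.X (Sum.inr i) - coord (φ i) Y0))
  let I1 : Ideal R0 := Ideal.span (Set.range r1)
  haveI : Algebra.FinitePresentation A (R0 ⧸ I1) := Algebra.FinitePresentation.quotient (Submodule.fg_span (Set.finite_range r1))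
  let π1 := Ideal.Quotient.mkₐ A I1
  have h1 : ∀ k, π1 (r1 k) = 0 := fun k => Ideal.Quotient.eq_zero_iff_mem.2 (Ideal.subset_span ⟨k, rfl⟩)
  have hXY : chg π1 p X0 * chg π1 p Y0 = 1 := by
    rw [← map_mul, ← sub_eq_zero, ← map_one (chg (B := B) π1 p), ← map_sub]
    exact eq_of_coord hφ fun i => by rw [chg_coord, map_zero]; exact h1 (Sum.inl i)
  let b1 : Additive ((R0 ⧸ I1) ⊗[A] TT A B p)ˣ := Additive.ofMul ⟨_, _, hXY, (mul_comm _ _).trans hXY⟩
  let r2 : Fin n' → R0 ⧸ I1 := fun j => coord (φ' j)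
    (((Additive.toMul (δu _ p b1 - chgU (Algebra.ofId A (R0 ⧸ I1)) (p + 1) z) :
      ((R0 ⧸ I1) ⊗[A] TT A B (p + 1))ˣ) : (R0 ⧸ I1) ⊗[A] TT A B (p + 1)) - 1)
  let I2 : Ideal (R0 ⧸ I1) := Ideal.span (Set.range r2)
  let Y := (R0 ⧸ I1) ⧸ I2
  letI instY : CommRing Y := Ideal.Quotient.commRing I2
  letI algY : Algebra A Y := Ideal.Quotient.algebra A
  haveI : Algebra.FinitePresentation A Y := Algebra.FinitePresentation.quotient (Submodule.fg_span (Set.finite_range r2))
  let π2 := Ideal.Quotient.mkₐ A I2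
  let b : Additive (Y ⊗[A] TT A B p)ˣ := chgU π2 p b1
  have hb : δu Y p b = chgU (Algebra.ofId A Y) (p + 1) z := by
    rw [← sub_eq_zero, ← chgU_ofId π2, ← chgU_δu, ← map_sub]
    refine Additive.toMul.injective (Units.ext ?_)
    show chg π2 (p + 1) _ = 1
    rw [← sub_eq_zero, ← map_one (chg (B := B) π2 (p + 1)), ← map_sub]
    exact eq_of_coord hφ' fun j => by
      rw [chg_coord, map_zero]
      exact Ideal.Quotient.eq_zero_iff_mem.2 (Ideal.subset_span ⟨j, rfl⟩)
  have hrep : ∀ (C : Type u) [CommRing C] [Algebra A C] (w : Additive (C ⊗[A] TT A B p)ˣ),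
      δu C p w = chgU (Algebra.ofId A C) (p + 1) z → ∃ h : Y →ₐ[A] C,
        chgU h p b = w ∧
        (∀ i, h (π2 (π1 (MvPolynomial.X (Sum.inl i)))) =
          coord (φ i) ((Additive.toMul w : (C ⊗[A] TT A B p)ˣ) : C ⊗[A] TT A B p)) ∧
        ∀ i, h (π2 (π1 (MvPolynomial.X (Sum.inr i)))) =
          coord (φ i) (((Additive.toMul w)⁻¹ : (C ⊗[A] TT A B p)ˣ) : C ⊗[A] TT A B p) := by
    intro C _ _ w hw
    let W : C ⊗[A] TT A B p := ((Additive.toMul w : (C ⊗[A] TT A B p)ˣ) : C ⊗[A] TT A B p)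
    let W' : C ⊗[A] TT A B p := (((Additive.toMul w)⁻¹ : (C ⊗[A] TT A B p)ˣ) : C ⊗[A] TT A B p)
    let h0 : R0 →ₐ[A] C := MvPolynomial.aeval (Sum.elim (fun i => coord (φ i) W) (fun i => coord (φ i) W'))
    have hX : chg h0 p X0 = W := by
      simp only [X0, map_sum]
      refine Eq.trans (Finset.sum_congr rfl fun i _ => ?_) (sum_coord hφ W)
      show chg h0 p (MvPolynomial.X (Sum.inl i) ⊗ₜ[A] g i) = _
      rw [show chg (B := B) h0 p (MvPolynomial.X (Sum.inl i) ⊗ₜ[A] g i) = h0 (MvPolynomial.X (Sum.inl i)) ⊗ₜ[A] g i by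
        simp [chg]]
      exact congrArg (· ⊗ₜ[A] g i) (MvPolynomial.aeval_X _ _)
    have hY : chg h0 p Y0 = W' := by
      simp only [Y0, map_sum]
      refine Eq.trans (Finset.sum_congr rfl fun i _ => ?_) (sum_coord hφ W')
      show chg h0 p (MvPolynomial.X (Sum.inr i) ⊗ₜ[A] g i) = _
      rw [show chg (B := B) h0 p (MvPolynomial.X (Sum.inr i) ⊗ₜ[A] g i) = h0 (MvPolynomial.X (Sum.inr i)) ⊗ₜ[A] g i by
        simp [chg]]
      exact congrArg (· ⊗ₜ[A] g i) (MvPolynomial.aeval_X _ _)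
    have hl0 : ∀ i, h0 (MvPolynomial.X (Sum.inl i)) = coord (φ i) W := fun i => MvPolynomial.aeval_X _ _
    have hr0 : ∀ i, h0 (MvPolynomial.X (Sum.inr i)) = coord (φ i) W' := fun i => MvPolynomial.aeval_X _ _
    have hk1 : I1 ≤ RingHom.ker h0.toRingHom := Ideal.span_le.2 fun x hx => by
      obtain ⟨k, rfl⟩ := hx
      show h0 (r1 k) = 0
      rcases k with i | i | i
      · show h0 (coord (φ i) (X0 * Y0 - 1)) = 0
        rw [← chg_coord, map_sub, map_mul, map_one, hX, hY,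
          show W * W' = 1 from Units.mul_inv _, sub_self, map_zero]
      · show h0 (MvPolynomial.X (Sum.inl i) - coord (φ i) X0) = 0
        rw [map_sub, ← chg_coord, hX, hl0, sub_self]
      · show h0 (MvPolynomial.X (Sum.inr i) - coord (φ i) Y0) = 0
        rw [map_sub, ← chg_coord, hY, hr0, sub_self]
    let h1' : R0 ⧸ I1 →ₐ[A] C := Ideal.Quotient.liftₐ I1 h0 fun x hx => hk1 hx
    have hb1 : chgU h1' p b1 = w := Additive.toMul.injective (Units.ext (by
      show chg h1' p (chg π1 p X0) = W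
      rw [chg_chg]
      exact (congrArg (fun k : R0 →ₐ[A] C => chg k p X0) (AlgHom.ext fun x => rfl)).trans hX))
    have hk2 : I2 ≤ RingHom.ker h1'.toRingHom := Ideal.span_le.2 fun x hx => by
      obtain ⟨j, rfl⟩ := hx
      show h1' (coord (φ' j) _) = 0
      rw [← chg_coord, map_sub, map_one]
      have e : chgU h1' (p + 1) (δu _ p b1 - chgU (Algebra.ofId A (R0 ⧸ I1)) (p + 1) z) = 0 := by
        rw [map_sub, chgU_δu, chgU_ofId, hb1, hw, sub_self]
      rw [show chg h1' (p + 1) ((Additive.toMul (δu _ p b1 - chgU (Algebra.ofId A (R0 ⧸ I1)) (p + 1) z) :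
        ((R0 ⧸ I1) ⊗[A] TT A B (p + 1))ˣ) : (R0 ⧸ I1) ⊗[A] TT A B (p + 1)) = 1 from
        congrArg (fun v : Additive (C ⊗[A] TT A B (p + 1))ˣ =>
          ((Additive.toMul v : (C ⊗[A] TT A B (p + 1))ˣ) : C ⊗[A] TT A B (p + 1))) e, sub_self, map_zero]
    let h2 : Y →ₐ[A] C := Ideal.Quotient.liftₐ I2 h1' fun x hx => hk2 hx
    refine ⟨h2, ?_, fun i => ?_, fun i => ?_⟩
    · refine Eq.trans ?_ hb1
      refine Additive.toMul.injective (Units.ext ?_)
      show chg h2 p (chg π2 p _) = chg h1' p _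
      rw [chg_chg]
      exact congrArg (fun k : (R0 ⧸ I1) →ₐ[A] C => chg k p _) (AlgHom.ext fun x => rfl)
    · show h0 (MvPolynomial.X (Sum.inl i)) = _
      exact hl0 i
    · show h0 (MvPolynomial.X (Sum.inr i)) = _
      exact hr0 i
  have hext : ∀ (C : Type u) [CommRing C] [Algebra A C] (f f' : Y →ₐ[A] C),
      (∀ k, f (π2 (π1 (MvPolynomial.X k))) = f' (π2 (π1 (MvPolynomial.X k)))) → f = f' := by
    intro C _ _ f f' h
    refine AlgHom.ext fun y => ?_
    obtain ⟨y, rfl⟩ := Ideal.Quotient.mk_surjective y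
    obtain ⟨y, rfl⟩ := Ideal.Quotient.mk_surjective y
    exact AlgHom.congr_fun (MvPolynomial.algHom_ext (f := (f.comp π2).comp π1) (g := (f'.comp π2).comp π1) h) y
  have hvar : ∀ i, π2 (π1 (MvPolynomial.X (Sum.inl i))) =
        coord (φ i) ((Additive.toMul b : (Y ⊗[A] TT A B p)ˣ) : Y ⊗[A] TT A B p) ∧
      π2 (π1 (MvPolynomial.X (Sum.inr i))) =
        coord (φ i) (((Additive.toMul b)⁻¹ : (Y ⊗[A] TT A B p)ˣ) : Y ⊗[A] TT A B p) := by
    intro i
    constructor
    · show π2 (π1 _) = coord (φ i) (chg π2 p (chg π1 p X0))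
      rw [chg_coord, chg_coord]
      exact congrArg π2 (sub_eq_zero.1 ((map_sub π1 _ _).symm.trans (h1 (Sum.inr (Sum.inl i)))))
    · show π2 (π1 _) = coord (φ i) (chg π2 p (chg π1 p Y0))
      rw [chg_coord, chg_coord]
      exact congrArg π2 (sub_eq_zero.1 ((map_sub π1 _ _).symm.trans (h1 (Sum.inr (Sum.inr i)))))
  have hfs : Algebra.FormallySmooth A Y := by
    refine Algebra.FormallySmooth.of_comp_surjective fun C _ _ I hI f => ?_
    let π := Ideal.Quotient.mkₐ A I
    obtain ⟨w, hw, hwv⟩ := exists_lift p I hI (chgU (Algebra.ofId A C) (p + 1) z) (hzC C) (chgU f p b) (by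
      rw [← chgU_δu, hb, chgU_ofId, chgU_ofId])
    obtain ⟨h, -, hl, hr⟩ := hrep C w hw
    refine ⟨h, hext _ _ _ fun k => ?_⟩
    rcases k with i | i
    · rw [AlgHom.comp_apply, hl, (hvar i).1, ← chg_coord, ← chg_coord]
      refine congrArg (coord (φ i)) ?_
      exact congrArg (fun v : Additive ((C ⧸ I) ⊗[A] TT A B p)ˣ =>
        ((Additive.toMul v : ((C ⧸ I) ⊗[A] TT A B p)ˣ) : (C ⧸ I) ⊗[A] TT A B p)) hwv
    · rw [AlgHom.comp_apply, hr, (hvar i).2, ← chg_coord, ← chg_coord]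
      refine congrArg (coord (φ i)) ?_
      exact congrArg (fun v : Additive ((C ⧸ I) ⊗[A] TT A B p)ˣ =>
        (((Additive.toMul v)⁻¹ : ((C ⧸ I) ⊗[A] TT A B p)ˣ) : (C ⧸ I) ⊗[A] TT A B p)) hwv
  refine ⟨Y, inferInstance, inferInstance, ⟨hfs, inferInstance⟩, fun q => ?_, b, hb⟩
  let K := AlgebraicClosure q.asIdeal.ResidueField
  obtain ⟨s⟩ : Nonempty (B →ₐ[A] K) := by
    haveI : Nontrivial (K ⊗[A] B) := inferInstance
    obtain ⟨m, hm⟩ := Ideal.exists_maximal (K ⊗[A] B)
    letI := Ideal.Quotient.field m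
    haveI : Algebra.IsIntegral K ((K ⊗[A] B) ⧸ m) := inferInstance
    let e : K ≃ₐ[K] (K ⊗[A] B) ⧸ m := AlgEquiv.ofBijective (Algebra.ofId K _)
      (IsAlgClosed.algebraMap_bijective_of_isIntegral (k := K) (K := (K ⊗[A] B) ⧸ m))
    exact ⟨((e.symm.toAlgHom.restrictScalars A).comp ((Ideal.Quotient.mkₐ K m).restrictScalars A)).comp
      Algebra.TensorProduct.includeRight⟩
  obtain ⟨w, hw⟩ := exists_solution_of_point s p _ (hzC K)
  obtain ⟨h, -, -, -⟩ := hrep K w hw
  refine ⟨PrimeSpectrum.comap h.toRingHom ⊥, ?_⟩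
  ext1
  rw [PrimeSpectrum.comap_asIdeal, PrimeSpectrum.comap_asIdeal, Ideal.comap_comap,
    show h.toRingHom.comp (algebraMap A Y) = algebraMap A K from h.comp_algebraMap, PrimeSpectrum.asIdeal_bot,
    ← RingHom.ker_eq_comap_bot, IsScalarTower.algebraMap_eq A q.asIdeal.ResidueField K,
    ← RingHom.comap_ker, (RingHom.injective_iff_ker_eq_bot _).1 (RingHom.injective (algebraMap q.asIdeal.ResidueField K)),
    ← RingHom.ker_eq_comap_bot,
    Ideal.ker_algebraMap_residueField]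

/-- a cocycle is a coboundary over an étale cover of the base -/
theorem exists_etale_solution [Module.Finite A B] [Module.Projective A B] [Module.FaithfullyFlat A B] (p : ℕ)
    (z : Additive (A ⊗[A] TT A B (p + 1))ˣ) (hz : δu A (p + 1) z = 0) :
    ∃ (C : Type u) (_ : CommRing C) (_ : Algebra A C),
      AlgebraicGeometry.Etale (Spec.map (CommRingCat.ofHom (algebraMap A C))) ∧
      Surjective (Spec.map (CommRingCat.ofHom (algebraMap A C))) ∧
      ∃ w : Additive (C ⊗[A] TT A B p)ˣ, δu C p w = chgU (Algebra.ofId A C) (p + 1) z := by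
  obtain ⟨Y, _, _, hY, hsurj, b, hb⟩ := exists_solver p z hz
  let α : CommRingCat.of A ⟶ CommRingCat.of Y := CommRingCat.ofHom (algebraMap A Y)
  haveI : Smooth (Spec.map α) := HasRingHomProperty.Spec_iff.2 (RingHom.smooth_algebraMap.2 hY)
  haveI : Surjective (Spec.map α) := ⟨hsurj⟩
  obtain ⟨U, g, t, hU, hg, hgs, htg⟩ := Groth.Agent.S15870.exists_affine_etale_section (Spec.map α)
  let γ : CommRingCat.of A ⟶ Γ(U, ⊤) := Spec.preimage (U.isoSpec.inv ≫ g)
  letI : Algebra A Γ(U, ⊤) := γ.hom.toAlgebra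
  have hγ : Spec.map (CommRingCat.ofHom (algebraMap A Γ(U, ⊤))) = U.isoSpec.inv ≫ g := Spec.map_preimage _
  let τ : CommRingCat.of Y ⟶ Γ(U, ⊤) := Spec.preimage (U.isoSpec.inv ≫ t)
  have hτ : α ≫ τ = γ := Spec.map_injective (by
    rw [Spec.map_comp, Spec.map_preimage, Spec.map_preimage, Category.assoc, htg])
  let τ' : Y →ₐ[A] Γ(U, ⊤) := { τ.hom with commutes' := fun r => ConcreteCategory.congr_hom hτ r }
  refine ⟨Γ(U, ⊤), inferInstance, inferInstance, ?_, ?_, chgU τ' p b, ?_⟩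
  · rw [hγ]; infer_instance
  · rw [hγ]; infer_instance
  · rw [← chgU_δu, hb, chgU_ofId]

end Groth.L07.GmFppf
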