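import Groth.Agent.L07.GmFppf.Amitsur
import Mathlib.RingTheory.Smooth.Basic
import Mathlib.RingTheory.Flat.EquationalCriterion
import Mathlib.RingTheory.FinitePresentation
import Mathlib.FieldTheory.IsAlgClosed.AlgebraicClosure
import Mathlib.RingTheory.Spectrum.Prime.Basic
import Mathlib.RingTheory.RingHom.FinitePresentation

/-!
# Multiplicative Amitsur cocycles of a finite projective algebra are solved by a smooth algebra
-/

universe u

open TensorProduct

set_option autoImplicit false
set_option backward.isDefEq.respectTransparency false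
set_option backward.isDefEq.respectTransparency.types false
set_option linter.style.haveILetI false

noncomputable section

namespace Groth.L07.GmFppf

variable {A B : Type u} [CommRing A] [CommRing B] [Algebra A B]

/-- the linear map underlying a coface-preserving map -/
theorem mapR_toLinearMap {p q : ℕ} (f : TT A B p →ₐ[A] TT A B q) :
    (mapR f).toLinearMap = mapL f.toLinearMap := rfl

instance finite_TT [Module.Finite A B] : ∀ p, Module.Finite A (TT A B p)
  | 0 => inferInstanceAs (Module.Finite A A)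
  | p + 1 => haveI := finite_TT p; inferInstanceAs (Module.Finite A (B ⊗[A] TT A B p))

instance projective_TT [Module.Projective A B] : ∀ p, Module.Projective A (TT A B p)
  | 0 => inferInstanceAs (Module.Projective A A)
  | p + 1 => haveI := projective_TT p; inferInstanceAs (Module.Projective A (B ⊗[A] TT A B p))

variable (C : Type u) [CommRing C] [Algebra A C]

/-- the cofaces after base change -/
def dC (p : ℕ) (i : Fin (p + 1)) : C ⊗[A] TT A B p →ₐ[A] C ⊗[A] TT A B (p + 1) :=
  Algebra.TensorProduct.map (AlgHom.id A C) (d p i)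

theorem dC_tmul (p : ℕ) (i : Fin (p + 1)) (c : C) (t : TT A B p) :
    dC C p i (c ⊗ₜ[A] t) = c ⊗ₜ[A] d p i t := by
  simp [dC]

theorem dC_dC (p : ℕ) (i j : Fin (p + 1)) (h : i ≤ j) (x : C ⊗[A] TT A B p) :
    dC C (p + 1) j.succ (dC C p i x) = dC C (p + 1) i.castSucc (dC C p j x) := by
  rw [← AlgHom.comp_apply, ← AlgHom.comp_apply, dC, dC, dC, dC, ← Algebra.TensorProduct.map_comp,
    ← Algebra.TensorProduct.map_comp, d_d p i j h]

theorem lTensor_D_apply (p : ℕ) (x : C ⊗[A] TT A B p) :
    LinearMap.lTensor C (D p) x = ∑ i : Fin (p + 1), (-1 : ℤ) ^ (i : ℕ) • dC C p i x := by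
  induction x using TensorProduct.induction_on with
  | zero => simp
  | tmul c t =>
    rw [LinearMap.lTensor_tmul, D_apply, TensorProduct.tmul_sum]
    refine Finset.sum_congr rfl fun i _ => ?_
    rw [TensorProduct.tmul_smul, dC_tmul]
  | add x y hx hy => simp only [map_add, hx, hy, smul_add, Finset.sum_add_distrib]

/-- units, additively -/
abbrev addUnits {R R' : Type*} [CommRing R] [CommRing R'] (f : R →+* R') : Additive Rˣ →+ Additive R'ˣ :=
  MonoidHom.toAdditive (Units.map f.toMonoidHom)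

theorem addUnits_comp {R R' R'' : Type*} [CommRing R] [CommRing R'] [CommRing R''] (f : R →+* R') (g : R' →+* R'')
    (x : Additive Rˣ) : addUnits g (addUnits f x) = addUnits (g.comp f) x := rfl

/-- the multiplicative differential -/
def δu (p : ℕ) : Additive (C ⊗[A] TT A B p)ˣ →+ Additive (C ⊗[A] TT A B (p + 1))ˣ :=
  ∑ i : Fin (p + 1), (-1 : ℤ) ^ (i : ℕ) • addUnits (dC (A := A) (B := B) C p i).toRingHom

theorem δu_apply (p : ℕ) (x : Additive (C ⊗[A] TT A B p)ˣ) :
    δu C p x = ∑ i : Fin (p + 1), (-1 : ℤ) ^ (i : ℕ) •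
      addUnits (dC (A := A) (B := B) C p i).toRingHom x := by
  simp [δu]

theorem δu_δu (p : ℕ) (x : Additive (C ⊗[A] TT A B p)ˣ) : δu C (p + 1) (δu C p x) = 0 := by
  rw [δu_apply, δu_apply]
  exact alt_sum_comp (fun i => addUnits (dC (A := A) (B := B) C p i).toRingHom)
    (fun i => addUnits (dC (A := A) (B := B) C (p + 1) i).toRingHom)
    (fun i j h x => Additive.toMul.injective (Units.ext (dC_dC C p i j h _))) x

variable {C} {C' : Type u} [CommRing C'] [Algebra A C']

/-- change of the base -/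
def chg (φ : C →ₐ[A] C') (p : ℕ) : C ⊗[A] TT A B p →ₐ[A] C' ⊗[A] TT A B p :=
  Algebra.TensorProduct.map φ (AlgHom.id A (TT A B p))

theorem chg_dC (φ : C →ₐ[A] C') (p : ℕ) (i : Fin (p + 1)) (x : C ⊗[A] TT A B p) :
    chg φ (p + 1) (dC C p i x) = dC C' p i (chg φ p x) := by
  induction x using TensorProduct.induction_on with
  | zero => simp
  | tmul c t => simp [chg, dC_tmul]
  | add x y hx hy => simp only [map_add, hx, hy]

theorem chg_chg {C'' : Type u} [CommRing C''] [Algebra A C''] (φ : C →ₐ[A] C') (ψ : C' →ₐ[A] C'') (p : ℕ)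
    (x : C ⊗[A] TT A B p) : chg ψ p (chg φ p x) = chg (ψ.comp φ) p x := by
  induction x using TensorProduct.induction_on with
  | zero => simp
  | tmul c t => simp [chg]
  | add x y hx hy => simp only [map_add, hx, hy]

/-- change of the base on units -/
abbrev chgU (φ : C →ₐ[A] C') (p : ℕ) : Additive (C ⊗[A] TT A B p)ˣ →+ Additive (C' ⊗[A] TT A B p)ˣ :=
  addUnits (chg (B := B) φ p).toRingHom

theorem chgU_δu (φ : C →ₐ[A] C') (p : ℕ) (x : Additive (C ⊗[A] TT A B p)ˣ) :
    chgU φ (p + 1) (δu C p x) = δu C' p (chgU φ p x) := by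
  rw [δu_apply, δu_apply, map_sum]
  refine Finset.sum_congr rfl fun i _ => ?_
  rw [map_zsmul]
  exact congrArg _ (Additive.toMul.injective (Units.ext (chg_dC φ p i _)))

section Lift

variable {R R' : Type*} [CommRing R] [CommRing R'] (q : R →+* R')

/-- the units congruent to one along a square zero kernel -/
def exp1 (hsq : ∀ a b : R, q a = 0 → q b = 0 → a * b = 0) : RingHom.ker q →+ Additive Rˣ :=
  AddMonoidHom.mk' (fun a => Additive.ofMul
    { val := 1 + a.1
      inv := 1 - a.1
      val_inv := by linear_combination -(hsq a.1 a.1 a.2 a.2)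
      inv_val := by linear_combination -(hsq a.1 a.1 a.2 a.2) })
    fun a b => Additive.toMul.injective (Units.ext (by
      show 1 + ((a + b : RingHom.ker q) : R) = (1 + a.1) * (1 + b.1)
      rw [Submodule.coe_add]
      linear_combination -(hsq a.1 b.1 a.2 b.2)))

theorem exists_exp1 (hsq : ∀ a b : R, q a = 0 → q b = 0 → a * b = 0) (w : Additive Rˣ)
    (hw : addUnits q w = 0) : ∃ a, exp1 q hsq a = w := by
  have h1 : q ((Additive.toMul w : Rˣ) : R) = 1 :=
    congrArg (fun z : Additive R'ˣ => ((Additive.toMul z : R'ˣ) : R')) hw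
  exact ⟨⟨((Additive.toMul w : Rˣ) : R) - 1, by rw [RingHom.mem_ker, map_sub, h1, map_one, sub_self]⟩,
    Additive.toMul.injective (Units.ext (add_sub_cancel _ _))⟩

theorem exp1_injective (hsq : ∀ a b : R, q a = 0 → q b = 0 → a * b = 0) : Function.Injective (exp1 q hsq) :=
  fun a b h => Subtype.ext (add_left_cancel (congrArg (fun z : Additive Rˣ => ((Additive.toMul z : Rˣ) : R)) h))

theorem exists_unit_lift (hq : Function.Surjective q) (hsq : ∀ a b : R, q a = 0 → q b = 0 → a * b = 0)
    (v : Additive R'ˣ) : ∃ w : Additive Rˣ, addUnits q w = v := by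
  obtain ⟨x, hx⟩ := hq ((Additive.toMul v : R'ˣ) : R')
  obtain ⟨y, hy⟩ := hq (((Additive.toMul v : R'ˣ)⁻¹ : R'ˣ) : R')
  have h0 : q (x * y - 1) = 0 := by rw [map_sub, map_mul, hx, hy, Units.mul_inv, map_one, sub_self]
  have h2 := hsq _ _ h0 h0
  have hu : IsUnit x := IsUnit.of_mul_eq_one (y * (2 - x * y)) (by linear_combination -h2)
  exact ⟨Additive.ofMul hu.unit, Additive.toMul.injective (Units.ext hx)⟩

end Lift

/-- the square zero lifting of solutions -/
theorem exists_lift [Module.FaithfullyFlat A B] [Module.Projective A B] (p : ℕ) (I : Ideal C) (hI : I ^ 2 = ⊥)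
    (z : Additive (C ⊗[A] TT A B (p + 1))ˣ) (hz : δu C (p + 1) z = 0)
    (v : Additive ((C ⧸ I) ⊗[A] TT A B p)ˣ) (hv : δu (C ⧸ I) p v = chgU (Ideal.Quotient.mkₐ A I) (p + 1) z) :
    ∃ w : Additive (C ⊗[A] TT A B p)ˣ, δu C p w = z ∧ chgU (Ideal.Quotient.mkₐ A I) p w = v := by
  let π := Ideal.Quotient.mkₐ A I
  let q : ∀ m, C ⊗[A] TT A B m →+* (C ⧸ I) ⊗[A] TT A B m := fun m => (chg π m).toRingHom
  let IA : Submodule A C := I.restrictScalars A
  have hq : ∀ m (x : C ⊗[A] TT A B m), q m x = LinearMap.rTensor (TT A B m) π.toLinearMap x := fun m x => by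
    induction x using TensorProduct.induction_on with
    | zero => simp
    | tmul c t => simp [q, chg]
    | add x y hx hy => simp only [map_add, hx, hy]
  have hex : ∀ m, Function.Exact (LinearMap.rTensor (TT A B m) IA.subtype)
      (LinearMap.rTensor (TT A B m) π.toLinearMap) := fun m => by
    refine rTensor_exact (TT A B m) (fun x => ?_) Ideal.Quotient.mk_surjective
    show Ideal.Quotient.mk I x = 0 ↔ _
    rw [Ideal.Quotient.eq_zero_iff_mem]
    exact ⟨fun h => ⟨⟨x, h⟩, rfl⟩, fun ⟨y, hy⟩ => hy ▸ y.2⟩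
  have hqs : ∀ m, Function.Surjective (q m) := fun m x =>
    (LinearMap.rTensor_surjective (TT A B m) Ideal.Quotient.mk_surjective x).imp fun y hy => (hq m y).trans hy
  have hsq : ∀ m (a b : C ⊗[A] TT A B m), q m a = 0 → q m b = 0 → a * b = 0 := by
    intro m a b ha hb
    obtain ⟨a', rfl⟩ := (hex m a).1 ((hq m a).symm.trans ha)
    obtain ⟨b', rfl⟩ := (hex m b).1 ((hq m b).symm.trans hb)
    induction a' using TensorProduct.induction_on with
    | zero => simp
    | add x y hx hy =>
      rw [map_add, add_mul, hx ((hq m _).trans ((hex m _).2 ⟨x, rfl⟩)), hy ((hq m _).trans ((hex m _).2 ⟨y, rfl⟩)),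
        add_zero]
    | tmul i t =>
      induction b' using TensorProduct.induction_on with
      | zero => simp
      | add x y hx hy =>
        rw [map_add, mul_add, hx ((hq m _).trans ((hex m _).2 ⟨x, rfl⟩)), hy ((hq m _).trans ((hex m _).2 ⟨y, rfl⟩)),
          add_zero]
      | tmul j s =>
        have h : (i.1 : C) * j.1 ∈ I ^ 2 := pow_two I ▸ Ideal.mul_mem_mul i.2 j.2
        rw [hI, Ideal.mem_bot] at h
        simp [h]
  have hnat : ∀ m (i : Fin (m + 1)) (x : C ⊗[A] TT A B m), q m x = 0 → q (m + 1) (dC C m i x) = 0 := fun m i x hx =>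
    (chg_dC π m i x).trans ((congrArg (dC (C ⧸ I) m i) hx).trans (map_zero _))
  have hDker : ∀ m (x : C ⊗[A] TT A B m), q m x = 0 → q (m + 1) (LinearMap.lTensor C (D m) x) = 0 := fun m x hx => by
    rw [lTensor_D_apply, map_sum]
    exact Finset.sum_eq_zero fun i _ => by rw [map_zsmul, hnat m i x hx, smul_zero]
  have hexp : ∀ m (a : RingHom.ker (q m)),
      δu C m (exp1 (q m) (hsq m) a) = exp1 (q (m + 1)) (hsq (m + 1)) ⟨_, hDker m a.1 a.2⟩ := by
    intro m a
    have e : (⟨_, hDker m a.1 a.2⟩ : RingHom.ker (q (m + 1))) =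
        ∑ i : Fin (m + 1), (-1 : ℤ) ^ (i : ℕ) • (⟨dC C m i a.1, hnat m i a.1 a.2⟩ : RingHom.ker (q (m + 1))) := by
      apply Subtype.ext
      show LinearMap.lTensor C (D m) a.1 = _
      rw [lTensor_D_apply]
      push_cast
      rfl
    rw [e, map_sum, δu_apply]
    refine Finset.sum_congr rfl fun i _ => ?_
    rw [map_zsmul]
    refine congrArg _ (Additive.toMul.injective (Units.ext ?_))
    show dC C m i (1 + a.1) = 1 + dC C m i a.1
    rw [map_add, map_one]
  obtain ⟨w0, hw0⟩ := exists_unit_lift (q p) (hqs p) (hsq p) v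
  obtain ⟨a, ha⟩ := exists_exp1 (q (p + 1)) (hsq (p + 1)) (z - δu C p w0) (by
    rw [map_sub]
    refine sub_eq_zero.2 ?_
    refine hv.symm.trans ((congrArg (δu (C ⧸ I) p) hw0.symm).trans ?_)
    exact (chgU_δu π p w0).symm)
  have hDa : LinearMap.lTensor C (D (p + 1)) a.1 = 0 := by
    have h0 : δu C (p + 1) (exp1 (q (p + 1)) (hsq (p + 1)) a) = 0 := by
      rw [ha, map_sub, hz, δu_δu, sub_zero]
    rw [hexp] at h0
    exact congrArg Subtype.val (exp1_injective (q (p + 2)) (hsq (p + 2)) (h0.trans (map_zero _).symm))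
  obtain ⟨a', ha'⟩ := (hex (p + 1) a.1).1 ((hq (p + 1) a.1).symm.trans a.2)
  have hcomm : ∀ m (x : IA ⊗[A] TT A B m), LinearMap.rTensor (TT A B (m + 1)) IA.subtype (LinearMap.lTensor IA (D m) x) =
      LinearMap.lTensor C (D m) (LinearMap.rTensor (TT A B m) IA.subtype x) := fun m x => by
    rw [← LinearMap.comp_apply, LinearMap.rTensor_comp_lTensor, ← LinearMap.lTensor_comp_rTensor]
    rfl
  have hD' : LinearMap.lTensor IA (D (p + 1)) a' = 0 := by
    refine Module.Flat.rTensor_preserves_injective_linearMap (M := TT A B (p + 2)) IA.subtype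
      Subtype.val_injective ?_
    rw [hcomm, ha', hDa, map_zero]
  obtain ⟨y, hy⟩ := (exact_D (A := A) (B := B) IA p a').1 hD'
  let b : RingHom.ker (q p) := ⟨LinearMap.rTensor (TT A B p) IA.subtype y, (hq p _).trans ((hex p _).2 ⟨y, rfl⟩)⟩
  refine ⟨w0 + exp1 (q p) (hsq p) b, ?_, ?_⟩
  · rw [map_add, hexp p b]
    have : (⟨_, hDker p b.1 b.2⟩ : RingHom.ker (q (p + 1))) = a := Subtype.ext (by
      show LinearMap.lTensor C (D p) (LinearMap.rTensor (TT A B p) IA.subtype y) = a.1
      rw [← hcomm, hy, ha'])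
    rw [this, ha]
    abel
  · have h0 : chgU π p (exp1 (q p) (hsq p) b) = 0 := Additive.toMul.injective (Units.ext (by
      show q p (1 + b.1) = 1
      rw [map_add, map_one, RingHom.mem_ker.1 b.2, add_zero]))
    rw [map_add, h0, add_zero]
    exact hw0

section Point

variable {K : Type u} [CommRing K] [Algebra A K] (s : B →ₐ[A] K)

/-- evaluating the first factor at a point -/
def evalPt (p : ℕ) : K ⊗[A] TT A B (p + 1) →ₐ[A] K ⊗[A] TT A B p :=
  Algebra.TensorProduct.lift (Algebra.TensorProduct.includeLeft : K →ₐ[A] K ⊗[A] TT A B p)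
    (Algebra.TensorProduct.map s (AlgHom.id A (TT A B p)) : B ⊗[A] TT A B p →ₐ[A] K ⊗[A] TT A B p)
    fun _ _ => .all _ _

theorem evalPt_inR (p : ℕ) (x : K ⊗[A] TT A B p) : evalPt s p (dC K p 0 x) = x := by
  induction x using TensorProduct.induction_on with
  | zero => simp
  | tmul k t =>
    rw [dC_tmul, d_zero, evalPt, Algebra.TensorProduct.lift_tmul]
    show k ⊗ₜ[A] (1 : TT A B p) * (Algebra.TensorProduct.map s (AlgHom.id A (TT A B p))) ((1 : B) ⊗ₜ[A] t) = _
    simp
  | add x y hx hy => simp only [map_add, hx, hy]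

theorem evalPt_succ (p : ℕ) (i : Fin (p + 1)) (x : K ⊗[A] TT A B (p + 1)) :
    evalPt s (p + 1) (dC K (p + 1) i.succ x) = dC K p i (evalPt s p x) := by
  induction x using TensorProduct.induction_on with
  | zero => simp
  | tmul k t =>
    induction t using induction_succ with
    | h0 => simp
    | ht b t =>
      rw [dC_tmul, d_succ, evalPt, evalPt, Algebra.TensorProduct.lift_tmul, Algebra.TensorProduct.lift_tmul, map_mul]
      show k ⊗ₜ[A] (1 : TT A B (p + 1)) * (Algebra.TensorProduct.map s (AlgHom.id A (TT A B (p + 1))))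
          ((Algebra.TensorProduct.map (AlgHom.id A B) (d p i)) (b ⊗ₜ[A] t)) =
        dC K p i (k ⊗ₜ[A] (1 : TT A B p)) * dC K p i ((Algebra.TensorProduct.map s (AlgHom.id A (TT A B p))) (b ⊗ₜ[A] t))
      simp [dC_tmul]
    | ha u v hu hv => simp only [TensorProduct.tmul_add, map_add, hu, hv]
  | add x y hx hy => simp only [map_add, hx, hy]

include s in
/-- a point makes cocycles coboundaries -/
theorem exists_solution_of_point (p : ℕ) (z : Additive (K ⊗[A] TT A B (p + 1))ˣ) (hz : δu K (p + 1) z = 0) :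
    ∃ w, δu K p w = z := by
  let e : ∀ m, Additive (K ⊗[A] TT A B (m + 1))ˣ →+ Additive (K ⊗[A] TT A B m)ˣ := fun m =>
    addUnits (evalPt s m).toRingHom
  refine ⟨e p z, ?_⟩
  have h := congrArg (e (p + 1)) hz
  rw [δu_apply, map_sum, map_zero, Fin.sum_univ_succ] at h
  simp only [map_zsmul, Fin.val_zero, pow_zero, one_smul, Fin.val_succ, pow_succ, mul_neg, mul_one, neg_smul, map_neg, map_zsmul,
    Finset.sum_neg_distrib] at h
  have h0 : e (p + 1) (addUnits (dC (A := A) (B := B) K (p + 1) 0).toRingHom z) = z :=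
    Additive.toMul.injective (Units.ext (evalPt_inR s (p + 1) _))
  have h1 : ∀ i : Fin (p + 1), e (p + 1) (addUnits
      (dC (A := A) (B := B) K (p + 1) i.succ).toRingHom z) =
      addUnits (dC (A := A) (B := B) K p i).toRingHom (e p z) := fun i =>
    Additive.toMul.injective (Units.ext (evalPt_succ s p i _))
  simp only [h0, h1, Finset.sum_neg_distrib] at h
  rw [δu_apply]
  exact (add_neg_eq_zero.1 h).symm

end Point

end Groth.L07.GmFppf
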